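import Groth.Agent.InvExt.Local
import Groth.Agent.LineCoc.Basic
import Groth.Agent.AmpleLib.GenIso
import Groth.Agent.Props.GenPull
import Groth.Agent.RatMapExt.Sections

/-!
# Invertible modules extend across points with factorial local rings
-/

set_option autoImplicit false
set_option linter.style.haveILetI false
set_option backward.isDefEq.respectTransparency false
set_option backward.isDefEq.respectTransparency.types false

universe u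

open CategoryTheory AlgebraicGeometry Opposite TopologicalSpace

noncomputable section

namespace Groth.Agent.InvExt

open Groth.Agent.QCoh Groth.Agent.Props.GenLocus Groth.Agent.Props.GenPull

variable {X : Scheme.{u}}

section open_immersion

variable (U : X.Opens) (L : (U : Scheme.{u}).Modules)

/-- The pushforward to `X`. -/
abbrev pushM : X.Modules := (Scheme.Modules.pushforward U.ι).obj L

lemma bijective_app_ι {O : X.Opens} (hO : O ≤ U) : Function.Bijective (U.ι.app O) :=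
  haveI := U.ι.isIso_app O (by rwa [U.opensRange_ι])
  (ConcreteCategory.isIso_iff_bijective _).mp inferInstance

lemma smul_push {O : X.Opens} (a : Γ(X, O)) (m : Γ(pushM U L, O)) :
    (show Γ(L, U.ι ⁻¹ᵁ O) from a • m) = U.ι.app O a • (show Γ(L, U.ι ⁻¹ᵁ O) from m) := rfl

lemma isGen_push_iff {O : X.Opens} (hO : O ≤ U) (g : Γ(L, U.ι ⁻¹ᵁ O)) :
    IsGen (pushM U L) O g ↔ IsGen L (U.ι ⁻¹ᵁ O) g := by
  have hsm : ∀ (T : X.Opens) (hT : T ≤ O),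
      (sm (L := pushM U L) (U := O) g hT : Γ(X, T) → Γ(pushM U L, T)) =
        fun a => sm (L := L) g (U.ι.preimage_mono hT) (U.ι.app T a) := fun T hT => rfl
  constructor
  · intro h V hV
    obtain ⟨T, hT, rfl⟩ : ∃ T, T ≤ O ∧ U.ι ⁻¹ᵁ T = V := by
      refine ⟨U.ι ''ᵁ V, ?_, U.ι.preimage_image_eq V⟩
      rintro _ ⟨v, hv, rfl⟩
      exact hV hv
    have h1 := h T hT
    rw [hsm] at h1
    exact (Function.Bijective.of_comp_iff _ (bijective_app_ι U (hT.trans hO))).mp h1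
  · intro h T hT
    rw [hsm]
    exact (h _ (U.ι.preimage_mono hT)).comp (bijective_app_ι U (hT.trans hO))

lemma exists_gen_push (hL : PicF.IsInvertible L) : ∀ z ∈ U, ∃ (O : X.Opens) (g : Γ(pushM U L, O)),
    z ∈ O ∧ O ≤ U ∧ IsGen (pushM U L) O g := by
  intro z hz
  obtain ⟨O, e, hzO, he⟩ := exists_isGen hL (⟨z, hz⟩ : U)
  have hpre : U.ι ⁻¹ᵁ (U.ι ''ᵁ O) ≤ O := (U.ι.preimage_image_eq O).le
  have hle : U.ι ''ᵁ O ≤ U := (U.ι.image_le_opensRange O).trans U.opensRange_ι.le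
  exact ⟨U.ι ''ᵁ O, res L hpre e, ⟨⟨z, hz⟩, hzO, rfl⟩, hle,
    (isGen_push_iff U L hle _).mpr (he.restrict hpre)⟩

end open_immersion

variable {U : X.Opens} {M : X.Modules}

/-- An open with a generator off the boundary, on which functions are seen off the boundary. -/
structure Piece (U : X.Opens) (M : X.Modules) where
  /-- the open -/
  W : X.Opens
  /-- the generator -/
  g : Γ(M, U ⊓ W)
  gen : IsGen M (U ⊓ W) g
  inj : ∀ V : X.Opens, V ≤ W → (∃ z, z ∈ V ∧ z ∈ U) →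
    Function.Injective (rres (inf_le_left : V ⊓ U ≤ V))

/-- `a` is the transition function from `P` to `Q`. -/
def IsTrans (P Q : Piece U M) (a : Γ(X, P.W ⊓ Q.W)) : Prop :=
  res M (le_inf inf_le_right (inf_le_left.trans inf_le_right) : (P.W ⊓ Q.W) ⊓ U ≤ U ⊓ Q.W) Q.g =
      rres (inf_le_left : (P.W ⊓ Q.W) ⊓ U ≤ P.W ⊓ Q.W) a •
        res M (le_inf inf_le_right (inf_le_left.trans inf_le_left) : (P.W ⊓ Q.W) ⊓ U ≤ U ⊓ P.W) P.g ∧
    ∀ (V : X.Opens) (h : V ≤ P.W ⊓ Q.W), (∀ z ∈ V, z ∉ U) → rres h a = 1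

lemma isTrans_eq {P Q : Piece U M} {a : Γ(X, P.W ⊓ Q.W)} (ha : IsTrans P Q a) {V : X.Opens}
    (h : V ≤ P.W ⊓ Q.W) (hP : V ⊓ U ≤ U ⊓ P.W) (hQ : V ⊓ U ≤ U ⊓ Q.W) :
    res M hQ Q.g = rres (inf_le_left.trans h : V ⊓ U ≤ _) a • res M hP P.g := by
  have h1 := congrArg (res M (inf_le_inf_right U h : V ⊓ U ≤ (P.W ⊓ Q.W) ⊓ U)) ha.1
  rw [res_res, res_smul, res_res, rres_rres] at h1
  exact h1

theorem isTrans_cocycle {P Q R : Piece U M} {a : Γ(X, P.W ⊓ Q.W)} {b : Γ(X, Q.W ⊓ R.W)}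
    {c : Γ(X, P.W ⊓ R.W)} (ha : IsTrans P Q a) (hb : IsTrans Q R b) (hc : IsTrans P R c)
    (V : X.Opens) (h₁ : V ≤ P.W ⊓ Q.W) (h₂ : V ≤ Q.W ⊓ R.W) (h₃ : V ≤ P.W ⊓ R.W) :
    rres h₁ a * rres h₂ b = rres h₃ c := by
  by_cases hne : ∃ z, z ∈ V ∧ z ∈ U
  · refine P.inj V (h₁.trans inf_le_left) hne ?_
    have hP : V ⊓ U ≤ U ⊓ P.W := le_inf inf_le_right (inf_le_left.trans (h₁.trans inf_le_left))
    have hQ : V ⊓ U ≤ U ⊓ Q.W := le_inf inf_le_right (inf_le_left.trans (h₁.trans inf_le_right))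
    have hR : V ⊓ U ≤ U ⊓ R.W := le_inf inf_le_right (inf_le_left.trans (h₂.trans inf_le_right))
    refine P.gen.injective hP ?_
    rw [map_mul, rres_rres, rres_rres, rres_rres, mul_comm, mul_smul, ← isTrans_eq ha h₁ hP hQ,
      ← isTrans_eq hb h₂ hQ hR, ← isTrans_eq hc h₃ hP hR]
  · have hV : ∀ z ∈ V, z ∉ U := fun z hz hzU => hne ⟨z, hz, hzU⟩
    rw [ha.2 V h₁ hV, hb.2 V h₂ hV, hc.2 V h₃ hV, one_mul]

theorem isTrans_self (P : Piece U M) {a : Γ(X, P.W ⊓ P.W)} (ha : IsTrans P P a) : a = 1 := by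
  by_cases hne : ∃ z, z ∈ P.W ⊓ P.W ∧ z ∈ U
  · refine P.inj _ inf_le_left hne ?_
    refine P.gen.injective (le_inf inf_le_right (inf_le_left.trans inf_le_left)) ?_
    rw [map_one, one_smul]
    exact ha.1.symm
  · have h := ha.2 _ le_rfl fun z hz hzU => hne ⟨z, hz, hzU⟩
    rwa [rres_self] at h

theorem exists_trans_of_le (P Q : Piece U M) (h : P.W ⊓ Q.W ≤ U) : ∃ a, IsTrans P Q a := by
  obtain ⟨c, hc, -⟩ := P.gen.exists_eq (le_inf h inf_le_left : P.W ⊓ Q.W ≤ U ⊓ P.W)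
    (res M (le_inf h inf_le_right : P.W ⊓ Q.W ≤ U ⊓ Q.W) Q.g)
  refine ⟨c, ?_, fun V hV hVU => ?_⟩
  · have h1 := congrArg (res M (inf_le_left : (P.W ⊓ Q.W) ⊓ U ≤ P.W ⊓ Q.W)) hc
    rw [res_res, res_smul, res_res] at h1
    exact h1
  · exact TopCat.Presheaf.section_ext X.sheaf V _ _ fun z hz => absurd (h (hV hz)) (hVU z hz)

/-- A piece inside `U`. -/
def pieceOfGen {O : X.Opens} (hO : O ≤ U) {g : Γ(M, O)} (hg : IsGen M O g) : Piece U M where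
  W := O
  g := res M (inf_le_right : U ⊓ O ≤ O) g
  gen := hg.restrict _
  inj V hV _ a b hab := by
    have h1 := congrArg (rres (le_inf le_rfl (hV.trans hO) : V ≤ V ⊓ U)) hab
    rwa [rres_rres, rres_rres, rres_self, rres_self] at h1

/-- The boundary condition on a piece. -/
def IsBdry (base : ∀ η : X, η ∈ U → Σ' (W : X.Opens) (h : Γ(M, W)), η ∈ W ∧ IsGen M W h)
    (P : Piece U M) (C : Chart X) : Prop :=
  P.W ≤ C.V ∧ ∀ hη : C.η ∈ U, ∀ hηP : C.η ∈ P.W, ∀ z ∈ P.W, z ∉ U →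
    ringKrullDim (X.presheaf.stalk z) = 1 →
      UnAt C.η z (ratio (base C.η hη).2.2.2 (base C.η hη).2.2.1 (O := U ⊓ P.W) ⟨hη, hηP⟩ P.g)

lemma inj_of_chart (C : Chart X) {W : X.Opens} (hW : W ≤ C.V) (V : X.Opens) (hV : V ≤ W)
    (hne : ∃ z, z ∈ V ∧ z ∈ U) : Function.Injective (rres (inf_le_left : V ⊓ U ≤ V)) := by
  obtain ⟨z, hzV, hzU⟩ := hne
  have hη : C.η ∈ V ⊓ U := C.η_mem_of_nonempty (hW (hV hzV)) ⟨hzV, hzU⟩
  intro a b hab
  refine C.ext_of_germ (hV.trans hW) hη.1 ?_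
  rw [← germ_rres (inf_le_left : V ⊓ U ≤ V) C.η hη a, hab, germ_rres]

variable (hU : ∀ z ∈ U, ∃ (O : X.Opens) (g : Γ(M, O)), z ∈ O ∧ O ≤ U ∧ IsGen M O g)
  (base : ∀ η : X, η ∈ U → Σ' (W : X.Opens) (h : Γ(M, W)), η ∈ W ∧ IsGen M W h)

include hU in
theorem exists_bdry [IsLocallyNoetherian X] (x : X) (hx : x ∉ U)
    [IsDomain (X.presheaf.stalk x)] [UniqueFactorizationMonoid (X.presheaf.stalk x)] :
    ∃ (P : Piece U M) (C : Chart X), x ∈ P.W ∧ IsBdry base P C := by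
  obtain ⟨V, hV, hdom, hxV, -⟩ := RatMapExt.exists_affine_domain_nhd x ⊤ trivial
  let C : Chart X := ⟨V, hV, hdom⟩
  haveI := C.isNoetherianRing
  by_cases hη : C.η ∈ U
  · obtain ⟨W, f, hxW, hWV, hgood, hbd⟩ :=
      exists_piece U hU C x hxV hη (base C.η hη).2.2.2 (base C.η hη).2.2.1
    have hηW : C.η ∈ W := C.η_mem_of_nonempty hxV hxW
    obtain ⟨g, hg, hgr⟩ := exists_gen_of_good C (base C.η hη).2.2.2 (base C.η hη).2.2.1 U f (U ⊓ W)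
      ⟨hη, hηW⟩ hgood
    refine ⟨⟨W, g, hg, inj_of_chart C hWV⟩, C, hxW, hWV, fun hη' hηP z hz hzU hd => ?_⟩
    show UnAt C.η z _
    rw [hgr]
    exact hbd z hz hzU hd
  · have hemp : ∀ z ∈ U ⊓ V, False := fun z hz => hη (C.η_mem_of_nonempty hz.2 hz.1)
    refine ⟨⟨V, 0, IsGen.of_local fun z hz => (hemp z hz).elim, inj_of_chart C le_rfl⟩, C, hxV, le_rfl,
      fun hη' => absurd hη' hη⟩

theorem exists_trans_of_bdry [IsLocallyNoetherian X] (hufd : ∀ z : X, z ∉ U →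
      ∃ _ : IsDomain (X.presheaf.stalk z), UniqueFactorizationMonoid (X.presheaf.stalk z))
    (P Q : Piece U M) (C C' : Chart X) (hP : IsBdry base P C) (hQ : IsBdry base Q C') :
    ∃ a, IsTrans P Q a := by
  classical
  by_cases hne : ∃ z, z ∈ P.W ⊓ Q.W ∧ z ∈ U
  swap
  · refine ⟨1, ?_, fun V hV _ => map_one _⟩
    obtain ⟨c, hc, -⟩ := P.gen.exists_eq
      (le_inf inf_le_right (inf_le_left.trans inf_le_left) : (P.W ⊓ Q.W) ⊓ U ≤ U ⊓ P.W)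
      (res M (le_inf inf_le_right (inf_le_left.trans inf_le_right) : (P.W ⊓ Q.W) ⊓ U ≤ U ⊓ Q.W) Q.g)
    rw [hc]
    congr 1
    exact TopCat.Presheaf.section_ext X.sheaf _ _ _ fun z hz => absurd ⟨z, hz.1, hz.2⟩ hne
  obtain ⟨z₀, ⟨hzP, hzQ⟩, hzU⟩ := hne
  have hηeq : C.η = C'.η := C.eq_η_of (hP.1 hzP) (hQ.1 hzQ)
  have hηU : C.η ∈ U := C.η_mem_of_nonempty (hP.1 hzP) hzU
  have hηP : C.η ∈ P.W := C.η_mem_of_nonempty (hP.1 hzP) hzP
  have hηQ : C.η ∈ Q.W := C.η_mem_of_nonempty (hP.1 hzP) hzQ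
  have key : ∀ (η : X), C'.η = η → ∀ (hη : η ∈ U) (hη' : η ∈ Q.W) (y : X), y ∈ Q.W → y ∉ U →
      ringKrullDim (X.presheaf.stalk y) = 1 →
      UnAt η y (ratio (base η hη).2.2.2 (base η hη).2.2.1 (O := U ⊓ Q.W) ⟨hη, hη'⟩ Q.g) := by
    rintro η rfl hη hη' y hy hyU hd
    exact hQ.2 hη hη' y hy hyU hd
  letI := C.fieldK
  let B := base C.η hηU
  let r := ratio B.2.2.2 B.2.2.1 (O := U ⊓ P.W) ⟨hηU, hηP⟩ P.g
  let r' := ratio B.2.2.2 B.2.2.1 (O := U ⊓ Q.W) ⟨hηU, hηQ⟩ Q.g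
  have hr : r ≠ 0 := ratio_ne_zero _ _ _ P.gen
  have hr' : r' ≠ 0 := ratio_ne_zero _ _ _ Q.gen
  have hmem : ∀ y ∈ P.W ⊓ Q.W, UnAt C.η y (r' / r) := by
    intro y hy
    have hyV : y ∈ C.V := hP.1 hy.1
    by_cases hyU : y ∈ U
    · obtain ⟨u, hu, hu'⟩ := unAt_of_gen C B.2.2.2 B.2.2.1 P.gen Q.gen ⟨hηU, hηP⟩ ⟨hηU, hηQ⟩
        ⟨hyU, hy.1⟩ ⟨hyU, hy.2⟩ hyV
      show UnAt C.η y (r' / r)
      rwa [show r' = u * r from hu', mul_div_cancel_right₀ _ hr]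
    · obtain ⟨_, _⟩ := hufd y hyU
      haveI := C.ufd hyV
      haveI := C.isNoetherianRing
      rw [← C.un_iff hyV]
      refine un_of_height_one (C.pr y hyV).asIdeal _ le_rfl (div_ne_zero hr' hr) fun p hp hpy hph => ?_
      have hpy' : C.pt ⟨p, hp⟩ ⤳ y := by
        rw [← C.pt_pr hyV]; exact C.pt_specializes.mpr hpy
      have hpV := C.pt_mem ⟨p, hp⟩
      have hpW : C.pt ⟨p, hp⟩ ∈ P.W ⊓ Q.W := hpy'.mem_open (P.W ⊓ Q.W).2 hy
      have h1 : Un (C.pr _ hpV).asIdeal (r' / r) := by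
        by_cases hpU : C.pt ⟨p, hp⟩ ∈ U
        · obtain ⟨u, hu, hu'⟩ := unAt_of_gen C B.2.2.2 B.2.2.1 P.gen Q.gen ⟨hηU, hηP⟩ ⟨hηU, hηQ⟩
            ⟨hpU, hpW.1⟩ ⟨hpU, hpW.2⟩ hpV
          rw [show r' = u * r from hu', mul_div_cancel_right₀ _ hr]
          exact (C.un_iff hpV _).mpr hu
        · have hd : ringKrullDim (X.presheaf.stalk (C.pt ⟨p, hp⟩)) = 1 := by
            rw [C.ringKrullDim_stalk hpV, C.pr_pt]
            exact_mod_cast congrArg (fun n : ℕ∞ => (n : WithBot ℕ∞)) hph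
          exact ((C.un_iff hpV _).mpr (key C.η hηeq.symm hηU hηQ _ hpW.2 hpU hd)).div
            ((C.un_iff hpV _).mpr (hP.2 hηU hηP _ hpW.1 hpU hd))
      rwa [C.pr_pt] at h1
  obtain ⟨a, -, ha⟩ := C.exists_unit (inf_le_left.trans hP.1) (O := P.W ⊓ Q.W) ⟨hηP, hηQ⟩ (r' / r) hmem
  have hle : (P.W ⊓ Q.W) ⊓ U ≤ U ⊓ P.W := le_inf inf_le_right (inf_le_left.trans inf_le_left)
  refine ⟨a, ?_, fun V hV hVU => C.ext_of_empty ((hV.trans inf_le_left).trans hP.1)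
    (fun h => hVU _ h hηU) _ _⟩
  obtain ⟨c, hc, -⟩ := P.gen.exists_eq hle
    (res M (le_inf inf_le_right (inf_le_left.trans inf_le_right) : (P.W ⊓ Q.W) ⊓ U ≤ U ⊓ Q.W) Q.g)
  have h1 := ratio_trans B.2.2.2 B.2.2.1 (O := U ⊓ P.W) ⟨hηU, hηP⟩ (O' := U ⊓ Q.W) ⟨hηU, hηQ⟩
    (T := (P.W ⊓ Q.W) ⊓ U) ⟨⟨hηP, hηQ⟩, hηU⟩ hle
    (le_inf inf_le_right (inf_le_left.trans inf_le_right)) hc
  rw [hc]
  congr 1
  refine C.ext_of_germ (inf_le_left.trans (inf_le_left.trans hP.1)) ⟨⟨hηP, hηQ⟩, hηU⟩ ?_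
  rw [germ_rres, ha, eq_div_iff hr]
  exact h1.symm

end Groth.Agent.InvExt
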