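import Groth.Agent.InvExt.Ratio
import Mathlib.RingTheory.Ideal.MinimalPrime.Noetherian

/-!
# Extending an invertible module near a point with factorial local ring
-/

set_option autoImplicit false
set_option linter.style.haveILetI false

universe u

open CategoryTheory AlgebraicGeometry Opposite TopologicalSpace

noncomputable section

namespace Groth.Agent.InvExt

open Groth.Agent.QCoh Groth.Agent.Props.GenLocus

variable {X : Scheme.{u}} {M : X.Modules}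

lemma exists_finset_height_one {A : Type u} [CommRing A] [IsDomain A] [IsNoetherianRing A] {a : A}
    (ha : a ≠ 0) :
    ∃ S : Finset (Ideal A), (∀ p ∈ S, p.IsPrime ∧ p.height = 1) ∧
      ∀ p : Ideal A, p.IsPrime → p.height = 1 → a ∈ p → p ∈ S := by
  classical
  refine ⟨(Ideal.finite_minimalPrimes_of_isNoetherianRing A (Ideal.span {a})).toFinset.filter
    (fun p => p.IsPrime ∧ p.height = 1), fun p hp => (Finset.mem_filter.mp hp).2, fun p hp hh hap =>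
    Finset.mem_filter.mpr ⟨(Set.Finite.mem_toFinset _).mpr ?_, hp, hh⟩⟩
  obtain ⟨r, hr, hrp⟩ := Ideal.exists_minimalPrimes_le ((Ideal.span_singleton_le_iff_mem p).mpr hap)
  rcases eq_or_lt_of_le hrp with he | hlt
  · exact he ▸ hr
  · haveI := hr.isPrime
    haveI : r.FiniteHeight := ⟨Or.inr (ne_top_of_le_ne_top (by rw [hh]; exact ENat.one_ne_top)
      (Ideal.height_mono hrp))⟩
    have h1 := Ideal.height_strict_mono_of_isPrime hlt
    rw [hh, Order.lt_one_iff, Ideal.height_eq_zero_iff_eq_bot] at h1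
    exact absurd (h1 ▸ hr.1.2 (Ideal.mem_span_singleton_self a) : a ∈ (⊥ : Ideal A)) (by simpa using ha)

/-- Near a point with factorial local ring there is a normalised generator off the boundary. -/
theorem exists_piece (U : X.Opens)
    (hU : ∀ z ∈ U, ∃ (O : X.Opens) (g : Γ(M, O)), z ∈ O ∧ O ≤ U ∧ IsGen M O g)
    (C : Chart X) [IsNoetherianRing Γ(X, C.V)] (x : X) (hx : x ∈ C.V) [IsDomain (X.presheaf.stalk x)]
    [UniqueFactorizationMonoid (X.presheaf.stalk x)] (hηU : C.η ∈ U)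
    {W₀ : X.Opens} {h : Γ(M, W₀)} (hh : IsGen M W₀ h) (hW₀ : C.η ∈ W₀) :
    ∃ (W : X.Opens) (f : X.presheaf.stalk C.η), x ∈ W ∧ W ≤ C.V ∧
      (∀ z ∈ U ⊓ W, GoodAt C hh hW₀ U f z) ∧
      ∀ z ∈ W, z ∉ U → ringKrullDim (X.presheaf.stalk z) = 1 → UnAt C.η z f := by
  classical
  letI := C.fieldK
  haveI := C.ufd hx
  let A := Γ(X, C.V)
  let q := (C.pr x hx).asIdeal
  have un : ∀ (p : PrimeSpectrum A) (c : X.presheaf.stalk C.η), Un p.asIdeal c ↔ UnAt C.η (C.pt p) c := by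
    intro p c
    have h1 := C.un_iff (C.pt_mem p) c
    rwa [C.pr_pt] at h1
  have hcont : Continuous C.affine.fromSpec := C.affine.fromSpec.continuous
  have hgoodOpen : ∀ v, IsOpen {p : PrimeSpectrum A | GoodAt C hh hW₀ U v (C.pt p)} := by
    intro v
    rw [isOpen_iff_forall_mem_open]
    rintro p ⟨O, g, hO, hpO, hle, hg, hr⟩
    exact ⟨C.affine.fromSpec ⁻¹' O, fun p' hp' => ⟨O, g, hO, hp', hle, hg, hr⟩, O.2.preimage hcont, hpO⟩
  obtain ⟨s, hs⟩ := (PrimeSpectrum.isOpen_iff _).mp (hgoodOpen 1)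
  obtain ⟨a, has, ha0⟩ : ∃ a ∈ s, a ≠ (0 : A) := by
    by_contra hcon
    have h1 : (⟨⊥, Ideal.isPrime_bot⟩ : PrimeSpectrum A) ∈ PrimeSpectrum.zeroLocus s := fun r hr =>
      (show r = 0 from by_contra fun h0 => hcon ⟨r, hr, h0⟩) ▸ Submodule.zero_mem _
    rw [← hs] at h1
    refine h1 ⟨W₀ ⊓ U ⊓ C.V, res M (inf_le_left.trans inf_le_left) h, ⟨⟨hW₀, hηU⟩, C.η_mem⟩,
      ⟨⟨hW₀, hηU⟩, C.η_mem⟩, inf_le_inf_right _ inf_le_right, hh.restrict _, ?_⟩
    rw [ratio_res hh hW₀ hW₀ (g := h), ratio_eq hh hW₀ hW₀ (T := W₀) hW₀ le_rfl le_rfl (a := 1)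
      (by rw [one_smul]), map_one]
  have hB : ∀ p : PrimeSpectrum A, a ∉ p.asIdeal → GoodAt C hh hW₀ U 1 (C.pt p) := by
    intro p hp
    by_contra hb
    have h1 : p ∈ PrimeSpectrum.zeroLocus s := by rw [← hs]; exact hb
    exact hp (h1 has)
  obtain ⟨S, hSp, hS⟩ := exists_finset_height_one ha0
  have hr : ∀ p : Ideal A, ∃ c : X.presheaf.stalk C.η, c ≠ 0 ∧ ∀ hp : p.IsPrime, C.pt ⟨p, hp⟩ ∈ U →
      ∃ (O : X.Opens) (g : Γ(M, O)) (hO : C.η ∈ O), C.pt ⟨p, hp⟩ ∈ O ∧ O ≤ U ∧ IsGen M O g ∧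
        ratio hh hW₀ hO g = c := by
    intro p
    by_cases hp : p.IsPrime ∧ ∀ hp : p.IsPrime, C.pt ⟨p, hp⟩ ∈ U
    · obtain ⟨O, g, hzO, hOU, hg⟩ := hU _ (hp.2 hp.1)
      exact ⟨_, ratio_ne_zero hh hW₀ (C.η_mem_of_nonempty (C.pt_mem _) hzO) hg,
        fun _ _ => ⟨O, g, _, hzO, hOU, hg, rfl⟩⟩
    · exact ⟨1, one_ne_zero, fun hp' hU' => absurd ⟨hp', fun _ => hU'⟩ hp⟩
  choose c hc0 hc using hr
  let P := S.filter fun p => p ≤ q ∧ ∀ hp : p.IsPrime, C.pt ⟨p, hp⟩ ∈ U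
  obtain ⟨f, hf0, hfP, hfo⟩ := exists_adjust q P c
    (fun p hp => ⟨(hSp p (Finset.mem_filter.mp hp).1).1, (Finset.mem_filter.mp hp).2.1,
      (hSp p (Finset.mem_filter.mp hp).1).2⟩) (fun p _ => hc0 p)
  -- good at height one points below `x`
  have good1 : ∀ p : PrimeSpectrum A, p.asIdeal ≤ q → p.asIdeal.height = 1 → C.pt p ∈ U →
      GoodAt C hh hW₀ U f (C.pt p) := by
    intro p hpq hph hpU
    by_cases hP : p.asIdeal ∈ P
    · obtain ⟨O, g, hO, hzO, hOU, hg, hr⟩ := hc _ p.2 hpU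
      have h1 := good_of_gen C hh hW₀ hg hOU hO hzO (C.pt_mem _) ((un p _).mp (hfP _ hP))
      rwa [hr, div_mul_cancel₀ _ (hc0 _)] at h1
    · have ha : a ∉ p.asIdeal := fun ha => hP (Finset.mem_filter.mpr
        ⟨hS _ p.2 hph ha, hpq, fun _ => hpU⟩)
      obtain ⟨O, g, hO, hzO, hOU, hg, hr⟩ := hB p ha
      have h1 := good_of_gen C hh hW₀ hg (hOU.trans inf_le_left) hO hzO (C.pt_mem _)
        ((un p _).mp (hfo _ p.2 hpq hph hP))
      rwa [hr, mul_one] at h1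
  -- good at all points of `U` below `x`
  have good2 : ∀ p : PrimeSpectrum A, p.asIdeal ≤ q → C.pt p ∈ U → GoodAt C hh hW₀ U f (C.pt p) := by
    intro p hpq hpU
    obtain ⟨O, g, hzO, hOU, hg⟩ := hU _ hpU
    have hO : C.η ∈ O := C.η_mem_of_nonempty (C.pt_mem _) hzO
    have hρ : ratio hh hW₀ hO g ≠ 0 := ratio_ne_zero hh hW₀ hO hg
    have h1 : Un p.asIdeal (f / ratio hh hW₀ hO g) := by
      refine un_of_height_one q p.asIdeal hpq (div_ne_zero hf0 hρ) fun r hr hrp hrh => ?_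
      have hyz : C.pt ⟨r, hr⟩ ⤳ C.pt p := C.pt_specializes.mpr hrp
      obtain ⟨O₁, g₁, hO₁, hzO₁, -, hg₁, hr₁⟩ :=
        good1 ⟨r, hr⟩ (hrp.trans hpq) hrh (hyz.mem_open U.2 hpU)
      obtain ⟨u, hu, hu'⟩ := unAt_of_gen C hh hW₀ hg hg₁ hO hO₁ (hyz.mem_open O.2 hzO) hzO₁ (C.pt_mem _)
      rw [hr₁] at hu'
      rw [hu', mul_div_cancel_right₀ _ hρ]
      exact (un ⟨r, hr⟩ u).mpr hu
    have h2 := good_of_gen C hh hW₀ hg hOU hO hzO (C.pt_mem _) ((un p _).mp h1)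
    rwa [div_mul_cancel₀ _ hρ] at h2
  -- the bad loci avoid `x`
  obtain ⟨J, hJ⟩ := (PrimeSpectrum.isOpen_iff _).mp (hgoodOpen f)
  obtain ⟨I, hI⟩ := (PrimeSpectrum.isOpen_iff _).mp (U.2.preimage hcont)
  let F : Finset (Ideal A) := ((Ideal.finite_minimalPrimes_of_isNoetherianRing A (Ideal.span J)).toFinset ∪ S).filter
    fun m => ¬ m ≤ q
  have ht : ∀ m ∈ F, ∃ t : A, t ∈ m ∧ t ∉ q := fun m hm =>
    SetLike.not_le_iff_exists.mp (Finset.mem_filter.mp hm).2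
  choose t htm htq using ht
  let T := ∏ m ∈ F.attach, t m.1 m.2
  have hTq : T ∉ q := show T ∈ q.primeCompl from prod_mem fun m _ => htq _ _
  have hTm : ∀ m ∈ F, T ∈ m := fun m hm =>
    Ideal.mem_of_dvd m (Finset.dvd_prod_of_mem _ (Finset.mem_attach F ⟨m, hm⟩)) (htm m hm)
  have hbo : ∀ p : PrimeSpectrum A, C.pt p ∈ X.basicOpen T ↔ T ∉ p.asIdeal := fun p => by
    change p ∈ C.affine.fromSpec ⁻¹ᵁ X.basicOpen T ↔ _
    rw [C.affine.fromSpec_preimage_basicOpen]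
    exact Iff.rfl
  refine ⟨X.basicOpen T, f, ?_, X.basicOpen_le T, ?_, ?_⟩
  · have h1 := (hbo (C.pr x hx)).mpr hTq
    rwa [C.pt_pr] at h1
  · rintro z ⟨hzU, hzW⟩
    have hzV : z ∈ C.V := X.basicOpen_le T hzW
    obtain ⟨p, rfl⟩ : ∃ p, C.pt p = z := ⟨_, C.pt_pr hzV⟩
    by_contra hb
    have hpJ : p ∈ PrimeSpectrum.zeroLocus J := by rw [← hJ]; exact hb
    obtain ⟨m, hm, hmp⟩ := Ideal.exists_minimalPrimes_le (Ideal.span_le.mpr hpJ)
    haveI := hm.isPrime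
    have hmU : C.pt ⟨m, inferInstance⟩ ∈ U := by
      by_contra hmU
      have hmI : (⟨m, inferInstance⟩ : PrimeSpectrum A) ∈ PrimeSpectrum.zeroLocus I := by
        rw [← hI]; exact hmU
      have hpI : p ∈ PrimeSpectrum.zeroLocus I := fun r hr => hmp (hmI hr)
      rw [← hI] at hpI
      exact hpI hzU
    have hmF : m ∈ F := by
      refine Finset.mem_filter.mpr ⟨Finset.mem_union_left _ ((Set.Finite.mem_toFinset _).mpr hm), fun hmq => ?_⟩
      have hmJ : (⟨m, inferInstance⟩ : PrimeSpectrum A) ∈ PrimeSpectrum.zeroLocus J :=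
        fun r hr => hm.1.2 (Ideal.subset_span hr)
      rw [← hJ] at hmJ
      exact hmJ (good2 _ hmq hmU)
    exact (hbo p).mp hzW (hmp (hTm m hmF))
  · intro z hzW hzU hdim
    have hzV : z ∈ C.V := X.basicOpen_le T hzW
    obtain ⟨p, rfl⟩ : ∃ p, C.pt p = z := ⟨_, C.pt_pr hzV⟩
    rw [C.ringKrullDim_stalk hzV, C.pr_pt] at hdim
    have hph : p.asIdeal.height = 1 := by exact_mod_cast hdim
    by_cases hpq : p.asIdeal ≤ q
    · exact (un p f).mp (hfo _ p.2 hpq hph fun hP => hzU ((Finset.mem_filter.mp hP).2.2 p.2))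
    · exfalso
      have hap : a ∈ p.asIdeal := by
        by_contra hap
        obtain ⟨O, g, -, hzO, hOU, -⟩ := hB p hap
        exact hzU (hOU hzO).1
      exact (hbo p).mp hzW (hTm _ (Finset.mem_filter.mpr ⟨Finset.mem_union_right _ (hS _ p.2 hph hap), hpq⟩))

end Groth.Agent.InvExt
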