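import Groth.Agent.IdealSh.UFD
import Mathlib.RingTheory.Localization.AtPrime.Basic
import Mathlib.RingTheory.Localization.FractionRing
import Mathlib.RingTheory.Ideal.KrullsHeightTheorem

/-!
# Units in codimension one of a locally factorial ring

`Un q c`: the element `c` of the fraction field is a unit at the prime `q`.
`un_of_height_one`: at a prime with factorial local ring it suffices to be a unit at the height one
primes below it.  `exists_adjust`: orders at finitely many height one primes can be prescribed.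
-/

set_option autoImplicit false
set_option linter.style.haveILetI false

universe u

namespace Groth.Agent.InvExt

open UniqueFactorizationMonoid

variable {A : Type u} [CommRing A] {K : Type u} [Field K] [Algebra A K]

/-- `c` is a ratio of two elements outside `q`. -/
def Un (q : Ideal A) (c : K) : Prop :=
  ∃ a b : A, a ∉ q ∧ b ∉ q ∧ c * algebraMap A K b = algebraMap A K a

namespace Un

variable {q : Ideal A} [q.IsPrime]

lemma one : Un q (1 : K) :=
  ⟨1, 1, q.ne_top_iff_one.mp ‹q.IsPrime›.ne_top, q.ne_top_iff_one.mp ‹q.IsPrime›.ne_top, by simp⟩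

lemma mul {c d : K} (hc : Un q c) (hd : Un q d) : Un q (c * d) := by
  obtain ⟨a, b, ha, hb, h⟩ := hc
  obtain ⟨a', b', ha', hb', h'⟩ := hd
  refine ⟨a * a', b * b', fun hh => (‹q.IsPrime›.mem_or_mem hh).elim ha ha',
    fun hh => (‹q.IsPrime›.mem_or_mem hh).elim hb hb', ?_⟩
  rw [map_mul, map_mul, ← h, ← h']
  ring

omit [q.IsPrime] in
lemma mono {p : Ideal A} (hpq : p ≤ q) {c : K} (hc : Un q c) : Un p c := by
  obtain ⟨a, b, ha, hb, h⟩ := hc
  exact ⟨a, b, fun hh => ha (hpq hh), fun hh => hb (hpq hh), h⟩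

lemma of_notMem {a : A} (ha : a ∉ q) : Un q (algebraMap A K a) :=
  ⟨a, 1, ha, q.ne_top_iff_one.mp ‹q.IsPrime›.ne_top, by simp⟩

variable [IsDomain A] [IsFractionRing A K]

lemma inv {c : K} (hc : Un q c) : Un q c⁻¹ := by
  obtain ⟨a, b, ha, hb, h⟩ := hc
  refine ⟨b, a, hb, ha, ?_⟩
  have ha0 : algebraMap A K a ≠ 0 := fun h0 =>
    ha ((IsFractionRing.to_map_eq_zero_iff.mp h0) ▸ q.zero_mem)
  have hc0 : c ≠ 0 := fun h0 => ha0 (by rw [← h, h0, zero_mul])
  rw [← h, inv_mul_cancel_left₀ hc0]

lemma div {c d : K} (hc : Un q c) (hd : Un q d) : Un q (c / d) := by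
  rw [div_eq_mul_inv]; exact hc.mul hd.inv

lemma zpow {c : K} (hc : Un q c) : ∀ n : ℤ, Un q (c ^ n) := by
  have hp : ∀ n : ℕ, Un q (c ^ n) := fun n => by
    induction n with
    | zero => simpa using Un.one
    | succ n ih => rw [pow_succ]; exact ih.mul hc
  intro n
  cases n with
  | ofNat n => simpa using hp n
  | negSucc n => simpa using (hp (n + 1)).inv

lemma prod {ι : Type*} (s : Finset ι) (f : ι → K) (h : ∀ i ∈ s, Un q (f i)) :
    Un q (∏ i ∈ s, f i) :=
  Finset.prod_induction f (Un q) (fun _ _ => Un.mul) Un.one h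

end Un

variable [IsDomain A] [IsNoetherianRing A] (q : Ideal A) [q.IsPrime]
  [UniqueFactorizationMonoid (Localization.AtPrime q)]

omit [IsNoetherianRing A] in
/-- A parameter at a height one prime below `q`. -/
theorem exists_param (p : Ideal A) [p.IsPrime] (hpq : p ≤ q) (hp : p.height = 1) :
    ∃ π : A, π ∈ p ∧ π ≠ 0 ∧
      p.map (algebraMap A (Localization.AtPrime q)) =
        Ideal.span {algebraMap A (Localization.AtPrime q) π} := by
  have hd : Disjoint (q.primeCompl : Set A) p := Set.disjoint_left.mpr fun a ha hap => ha (hpq hap)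
  haveI hP : (p.map (algebraMap A (Localization.AtPrime q))).IsPrime :=
    IsLocalization.isPrime_of_isPrime_disjoint q.primeCompl _ p ‹_› hd
  have hc : (p.map (algebraMap A (Localization.AtPrime q))).comap (algebraMap A _) = p :=
    IsLocalization.under_map_of_isPrime_disjoint q.primeCompl _ ‹p.IsPrime› hd
  have hh : (p.map (algebraMap A (Localization.AtPrime q))).height = 1 := by
    rw [← IsLocalization.height_under q.primeCompl (p.map (algebraMap A (Localization.AtPrime q)))]
    exact (congrArg Ideal.height hc).trans hp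
  obtain ⟨σ, hσ⟩ := IdealSh.UFD.exists_span_of_height_one _ hh
  obtain ⟨a, s, rfl⟩ := IsLocalization.exists_mk'_eq q.primeCompl σ
  have he : Ideal.span {IsLocalization.mk' (Localization.AtPrime q) a s} =
      Ideal.span {algebraMap A (Localization.AtPrime q) a} := by
    rw [← IsLocalization.mk'_spec (Localization.AtPrime q) a s, mul_comm]
    exact (Ideal.span_singleton_mul_left_unit (IsLocalization.map_units _ s) _).symm
  rw [he] at hσ
  refine ⟨a, ?_, ?_, hσ⟩
  · rw [← hc, hσ]
    exact Ideal.mem_comap.mpr (Ideal.mem_span_singleton_self _)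
  · rintro rfl
    have : p = ⊥ := by
      rw [← hc, hσ, map_zero]
      simpa using (RingHom.injective_iff_ker_eq_bot _).mp
        (IsLocalization.injective (Localization.AtPrime q) q.primeCompl_le_nonZeroDivisors)
    rw [this, Ideal.height_bot] at hp
    exact zero_ne_one hp

variable [IsFractionRing A K]

/-- At a prime with factorial local ring, units in codimension one are units. -/
theorem un_of_height_one (q' : Ideal A) [q'.IsPrime] (hq' : q' ≤ q) {c : K} (hc : c ≠ 0)
    (h : ∀ p : Ideal A, p.IsPrime → p ≤ q' → p.height = 1 → Un p c) : Un q' c := by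
  classical
  obtain ⟨a, b, hb, hab⟩ := IsFractionRing.div_surjective (A := A) c
  have hb0 : b ≠ 0 := nonZeroDivisors.ne_zero hb
  have ha0 : a ≠ 0 := fun h0 => hc (by rw [← hab, h0, map_zero, zero_div])
  let S := Localization.AtPrime q
  let j := algebraMap A S
  have hinj : Function.Injective j :=
    IsLocalization.injective S q.primeCompl_le_nonZeroDivisors
  obtain ⟨a', b', g, hcop, hga, hgb⟩ :=
    UniqueFactorizationMonoid.exists_reduced_factors (j a) (fun h0 => ha0 (hinj (h0.trans (map_zero j).symm))) (j b)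
  have hjb0 : j b ≠ 0 := fun h0 => hb0 (hinj (h0.trans (map_zero j).symm))
  have hja0 : j a ≠ 0 := fun h0 => ha0 (hinj (h0.trans (map_zero j).symm))
  have hd' : Disjoint (q.primeCompl : Set A) q' := Set.disjoint_left.mpr fun a ha hap => ha (hq' hap)
  haveI hQ' : (q'.map j).IsPrime :=
    IsLocalization.isPrime_of_isPrime_disjoint q.primeCompl _ q' ‹_› hd'
  have hq'c : (q'.map j).comap j = q' :=
    IsLocalization.under_map_of_isPrime_disjoint q.primeCompl _ ‹q'.IsPrime› hd'
  have key : ∀ σ : S, Prime σ → σ ∈ q'.map j → (σ ∣ a' ∨ σ ∣ b') → σ ∣ a' ∧ σ ∣ b' := by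
    intro σ hσ hσq hdiv
    haveI : (Ideal.span {σ}).IsPrime := (Ideal.span_singleton_prime hσ.ne_zero).mpr hσ
    let p := (Ideal.span {σ}).comap j
    haveI : p.IsPrime := Ideal.IsPrime.comap j
    have hpq : p ≤ q' :=
      (Ideal.comap_mono ((Ideal.span_singleton_le_iff_mem _).mpr hσq)).trans hq'c.le
    have hp : p.height = 1 := by
      refine (IsLocalization.height_under q.primeCompl (Ideal.span {σ})).trans ?_
      refine le_antisymm (Ideal.height_le_one_of_isPrincipal_of_mem_minimalPrimes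
        (Ideal.span {σ}) _ ?_) ?_
      · rw [Ideal.minimalPrimes_eq_subsingleton_self]; exact Set.mem_singleton _
      · refine Order.one_le_iff_pos.mpr (pos_iff_ne_zero.mpr fun h0 => hσ.ne_zero ?_)
        rwa [Ideal.height_eq_zero_iff_eq_bot, Ideal.span_singleton_eq_bot] at h0
    obtain ⟨a₁, b₁, ha₁, hb₁, hcb⟩ := h p inferInstance hpq hp
    have hA : a * b₁ = b * a₁ := by
      refine IsFractionRing.injective A K ?_
      rw [map_mul, map_mul, ← hcb, ← hab]
      field_simp [IsFractionRing.to_map_ne_zero_of_mem_nonZeroDivisors hb]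
    have hS : a' * j b₁ = b' * j a₁ := by
      have := congrArg j hA
      rw [map_mul, map_mul, ← hga, ← hgb, mul_assoc, mul_assoc] at this
      refine mul_left_cancel₀ ?_ this
      rintro rfl
      exact hja0 (by rw [← hga, zero_mul])
    have na : ¬ σ ∣ j a₁ := fun hd => ha₁ (Ideal.mem_span_singleton.mpr hd)
    have nb : ¬ σ ∣ j b₁ := fun hd => hb₁ (Ideal.mem_span_singleton.mpr hd)
    rcases hdiv with hd | hd
    · refine ⟨hd, (hσ.dvd_or_dvd ?_).resolve_right na⟩
      rw [← hS]; exact hd.mul_right _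
    · refine ⟨(hσ.dvd_or_dvd ?_).resolve_right nb, hd⟩
      rw [hS]; exact hd.mul_right _
  have hnm : a' ∉ q'.map j ∧ b' ∉ q'.map j := by
    have hf : ∀ w : S, w ≠ 0 → w ∈ q'.map j → ∃ σ : S, Prime σ ∧ σ ∈ q'.map j ∧ σ ∣ w := by
      intro w hw0
      induction w using UniqueFactorizationMonoid.induction_on_prime with
      | h₁ => exact absurd rfl hw0
      | h₂ x hx => exact fun hxm => absurd (Ideal.eq_top_of_isUnit_mem _ hxm hx) hQ'.ne_top
      | h₃ x σ hx hσ ih =>
        intro hm
        rcases hQ'.mem_or_mem hm with hm | hm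
        · exact ⟨σ, hσ, hm, dvd_mul_right _ _⟩
        · obtain ⟨τ, h1, h2, h3⟩ := ih hx hm
          exact ⟨τ, h1, h2, h3.mul_left _⟩
    constructor <;> intro hm
    · obtain ⟨σ, hσ, hσq, hσd⟩ := hf a' (fun h0 => hja0 (by rw [← hga, h0, mul_zero])) hm
      obtain ⟨h1, h2⟩ := key σ hσ hσq (Or.inl hσd)
      exact hσ.not_isUnit (hcop h1 h2)
    · obtain ⟨σ, hσ, hσq, hσd⟩ := hf b' (fun h0 => hjb0 (by rw [← hgb, h0, mul_zero])) hm
      obtain ⟨h1, h2⟩ := key σ hσ hσq (Or.inr hσd)
      exact hσ.not_isUnit (hcop h1 h2)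
  obtain ⟨a₂, s, rfl⟩ := IsLocalization.exists_mk'_eq q.primeCompl a'
  obtain ⟨b₂, t, rfl⟩ := IsLocalization.exists_mk'_eq q.primeCompl b'
  have ha₂ : a₂ ∉ q' := fun hh => hnm.1 (by
    rw [IsLocalization.mk'_eq_mul_mk'_one]; exact Ideal.mul_mem_right _ _ (Ideal.mem_map_of_mem j hh))
  have hb₂ : b₂ ∉ q' := fun hh => hnm.2 (by
    rw [IsLocalization.mk'_eq_mul_mk'_one]; exact Ideal.mul_mem_right _ _ (Ideal.mem_map_of_mem j hh))
  refine ⟨a₂ * t, b₂ * s, fun hh => (‹q'.IsPrime›.mem_or_mem hh).elim ha₂ fun h' => t.2 (hq' h'),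
    fun hh => (‹q'.IsPrime›.mem_or_mem hh).elim hb₂ fun h' => s.2 (hq' h'), ?_⟩
  have hA : a * (b₂ * s) = b * (a₂ * t) := by
    refine hinj ?_
    rw [map_mul j, map_mul j, map_mul j, map_mul j, ← hga, ← hgb,
      ← IsLocalization.mk'_spec S a₂ s, ← IsLocalization.mk'_spec S b₂ t]
    ring
  have := congrArg (algebraMap A K) hA
  rw [map_mul, map_mul (algebraMap A K) b] at this
  rw [← hab, div_mul_eq_mul_div, div_eq_iff (IsFractionRing.to_map_ne_zero_of_mem_nonZeroDivisors hb),
    this, mul_comm]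

/-- Every nonzero element is a power of the parameter up to a unit at `p`. -/
theorem exists_zpow (p : Ideal A) [p.IsPrime] (hpq : p ≤ q) {π : A} (hπ0 : π ≠ 0)
    (hπ : p.map (algebraMap A (Localization.AtPrime q)) =
      Ideal.span {algebraMap A (Localization.AtPrime q) π}) {c : K} (hc : c ≠ 0) :
    ∃ n : ℤ, Un p (c / algebraMap A K π ^ n) := by
  let S := Localization.AtPrime q
  let j := algebraMap A S
  have hinj : Function.Injective j := IsLocalization.injective S q.primeCompl_le_nonZeroDivisors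
  have hd : Disjoint (q.primeCompl : Set A) p := Set.disjoint_left.mpr fun a ha hap => ha (hpq hap)
  haveI hP : (p.map j).IsPrime := IsLocalization.isPrime_of_isPrime_disjoint q.primeCompl _ p ‹_› hd
  have hpc : (p.map j).comap j = p := IsLocalization.under_map_of_isPrime_disjoint q.primeCompl _ ‹p.IsPrime› hd
  have hσ : Prime (j π) := (Ideal.span_singleton_prime
    fun h0 => hπ0 (hinj (h0.trans (map_zero j).symm))).mp (hπ ▸ hP)
  have hπK : algebraMap A K π ≠ 0 := fun h0 => hπ0 (IsFractionRing.to_map_eq_zero_iff.mp h0)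
  have hnat : ∀ a : A, a ≠ 0 → ∃ m : ℕ, Un p (algebraMap A K a / algebraMap A K π ^ m) := by
    intro a ha
    obtain ⟨m, w, hw, he⟩ := WfDvdMonoid.max_power_factor
      (a₀ := j a) (x := j π) (fun h0 => ha (hinj (h0.trans (map_zero j).symm))) hσ.irreducible
    obtain ⟨a₂, s, rfl⟩ := IsLocalization.exists_mk'_eq q.primeCompl w
    refine ⟨m, a₂, s, fun h2 => hw ?_, fun h2 => s.2 (hpq h2), ?_⟩
    · have : j a₂ ∈ p.map j := Ideal.mem_map_of_mem j h2
      rw [hπ, Ideal.mem_span_singleton] at this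
      rw [IsLocalization.mk'_eq_mul_mk'_one]
      exact this.mul_right _
    · have hA : a * s = π ^ m * a₂ := by
        refine hinj ?_
        rw [map_mul j, map_mul j, map_pow j, he, mul_assoc]
        exact congrArg _ (IsLocalization.mk'_spec S a₂ s)
      have := congrArg (algebraMap A K) hA
      rw [map_mul, map_mul, map_pow] at this
      rw [div_mul_eq_mul_div, this, mul_div_cancel_left₀ _ (pow_ne_zero _ hπK)]
  obtain ⟨a, b, hb, hab⟩ := IsFractionRing.div_surjective (A := A) c
  obtain ⟨m, hm⟩ := hnat a fun h0 => hc (by rw [← hab, h0, map_zero, zero_div])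
  obtain ⟨l, hl⟩ := hnat b (nonZeroDivisors.ne_zero hb)
  refine ⟨(m : ℤ) - l, ?_⟩
  have := hm.div hl
  rw [← hab, zpow_sub₀ hπK, zpow_natCast, zpow_natCast]
  rwa [div_div_div_eq, mul_comm (algebraMap A K π ^ m) (algebraMap A K b), ← div_div_div_eq] at this

/-- Prescribed orders at finitely many height one primes below `q`. -/
theorem exists_adjust (P : Finset (Ideal A)) (c : Ideal A → K)
    (hP : ∀ p ∈ P, p.IsPrime ∧ p ≤ q ∧ p.height = 1) (hc : ∀ p ∈ P, c p ≠ 0) :
    ∃ f : K, f ≠ 0 ∧ (∀ p ∈ P, Un p (f / c p)) ∧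
      ∀ p : Ideal A, p.IsPrime → p ≤ q → p.height = 1 → p ∉ P → Un p f := by
  classical
  have hsingle : ∀ p : {p // p ∈ P}, ∃ g : K, g ≠ 0 ∧ Un p.1 (g / c p.1) ∧
      ∀ p' : Ideal A, p'.IsPrime → p' ≤ q → p'.height = 1 → p' ≠ p.1 → Un p' g := by
    rintro ⟨p, hp⟩
    obtain ⟨hpp, hpq, hph⟩ := hP p hp
    obtain ⟨π, hπp, hπ0, hπ⟩ := exists_param q p hpq hph
    obtain ⟨n, hn⟩ := exists_zpow q p hpq hπ0 hπ (hc p hp)
    have hπK : algebraMap A K π ≠ 0 := fun h0 => hπ0 (IsFractionRing.to_map_eq_zero_iff.mp h0)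
    refine ⟨algebraMap A K π ^ n, zpow_ne_zero _ hπK, ?_, fun p' hp' hp'q hp'h hne => ?_⟩
    · have := hn.inv
      rwa [inv_div] at this
    · refine (Un.of_notMem ?_).zpow n
      intro hπp'
      apply hne
      have hle : p ≤ p' := by
        intro r hr
        have h1 : algebraMap A (Localization.AtPrime q) r ∈ p'.map (algebraMap A _) := by
          have := Ideal.mem_map_of_mem (algebraMap A (Localization.AtPrime q)) hr
          rw [hπ] at this
          exact (Ideal.span_singleton_le_iff_mem _).mpr (Ideal.mem_map_of_mem _ hπp') this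
        rwa [← Ideal.mem_comap, show Ideal.comap (algebraMap A (Localization.AtPrime q)) (p'.map _) = p' from IsLocalization.under_map_of_isPrime_disjoint q.primeCompl _ hp'
          (Set.disjoint_left.mpr fun a ha hap => ha (hp'q hap))] at h1
      by_contra hne'
      haveI : p.FiniteHeight := ⟨Or.inr (by rw [hph]; exact ENat.one_ne_top)⟩
      have := Ideal.height_strict_mono_of_isPrime (lt_of_le_of_ne hle (Ne.symm hne')) (I := p)
      rw [hph, hp'h] at this
      exact lt_irrefl _ this
  choose g hg0 hgp hgo using hsingle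
  refine ⟨∏ p ∈ P.attach, g p, Finset.prod_ne_zero_iff.mpr fun p _ => hg0 p, fun p hp => ?_,
    fun p hp' hpq hph hpP => ?_⟩
  · obtain ⟨hpp, hpq, hph⟩ := hP p hp
    rw [← Finset.mul_prod_erase _ _ (Finset.mem_attach P ⟨p, hp⟩), mul_div_right_comm]
    exact (hgp ⟨p, hp⟩).mul (Un.prod _ _ fun p' hp' => hgo p' p hpp hpq hph fun h =>
      (Finset.mem_erase.mp hp').1 (Subtype.ext h.symm))
  · exact Un.prod _ _ fun p' _ => hgo p' p hp' hpq hph fun h => hpP (h ▸ p'.2)

end Groth.Agent.InvExt
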