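import Groth.Agent.InvExt.Alg
import Mathlib.AlgebraicGeometry.AffineScheme
import Mathlib.AlgebraicGeometry.Properties
import Mathlib.AlgebraicGeometry.Noetherian
import Mathlib.RingTheory.KrullDimension.Basic

/-!
# Affine charts with a domain of functions

Points of the chart as primes, the stalk at the generic point as the fraction field.
-/

set_option autoImplicit false
set_option linter.style.haveILetI false

universe u

open CategoryTheory AlgebraicGeometry Opposite TopologicalSpace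

noncomputable section

namespace Groth.Agent.InvExt

variable {X : Scheme.{u}}

/-- `c` is the image of a unit at `z`. -/
def UnAt (η z : X) (c : X.presheaf.stalk η) : Prop :=
  ∃ (h : η ⤳ z) (w : X.presheaf.stalk z), IsUnit w ∧ (X.presheaf.stalkSpecializes h).hom w = c

/-- An affine open with a domain of functions. -/
structure Chart (X : Scheme.{u}) where
  /-- the open -/
  V : X.Opens
  affine : IsAffineOpen V
  dom : IsDomain Γ(X, V)

namespace Chart

variable (C : Chart X)

instance : IsDomain Γ(X, C.V) := C.dom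

lemma isNoetherianRing [IsLocallyNoetherian X] : IsNoetherianRing Γ(X, C.V) :=
  IsLocallyNoetherian.component_noetherian ⟨C.V, C.affine⟩

/-- The point of a prime. -/
def pt (p : PrimeSpectrum Γ(X, C.V)) : X := C.affine.fromSpec p

/-- The prime of a point. -/
abbrev pr (z : X) (hz : z ∈ C.V) : PrimeSpectrum Γ(X, C.V) := C.affine.primeIdealOf ⟨z, hz⟩

lemma pt_mem (p : PrimeSpectrum Γ(X, C.V)) : C.pt p ∈ C.V :=
  C.affine.range_fromSpec.le ⟨p, rfl⟩

lemma pt_pr {z : X} (hz : z ∈ C.V) : C.pt (C.pr z hz) = z :=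
  C.affine.fromSpec_primeIdealOf ⟨z, hz⟩

lemma pr_pt (p : PrimeSpectrum Γ(X, C.V)) : C.pr (C.pt p) (C.pt_mem p) = p :=
  C.affine.fromSpec.isOpenEmbedding.injective (C.affine.fromSpec_primeIdealOf ⟨_, C.pt_mem p⟩)

lemma pt_specializes {p q : PrimeSpectrum Γ(X, C.V)} : C.pt p ⤳ C.pt q ↔ p.asIdeal ≤ q.asIdeal :=
  C.affine.fromSpec.isOpenEmbedding.isInducing.specializes_iff.trans
    (PrimeSpectrum.le_iff_specializes p q).symm

/-- The generic point. -/
def η : X := C.pt ⟨⊥, Ideal.isPrime_bot⟩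

lemma η_mem : C.η ∈ C.V := C.pt_mem _

lemma specializes {z : X} (hz : z ∈ C.V) : C.η ⤳ z := by
  rw [← C.pt_pr hz]
  exact C.pt_specializes.mpr bot_le

lemma η_mem_of_nonempty {O : X.Opens} {z : X} (hz : z ∈ C.V) (hzO : z ∈ O) : C.η ∈ O :=
  (C.specializes hz).mem_open O.2 hzO

lemma eq_η_of {C' : Chart X} {z : X} (hz : z ∈ C.V) (hz' : z ∈ C'.V) : C.η = C'.η := by
  have h1 : C'.η ⤳ C.η := C'.specializes (C.η_mem_of_nonempty hz hz')
  have h2 : C.η ⤳ C'.η := C.specializes (C'.η_mem_of_nonempty hz' hz)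
  exact (h2.antisymm h1).eq

lemma ringKrullDim_stalk {z : X} (hz : z ∈ C.V) :
    ringKrullDim (X.presheaf.stalk z) = (C.pr z hz).asIdeal.height := by
  letI := TopCat.Presheaf.algebra_section_stalk X.presheaf (⟨z, hz⟩ : C.V)
  haveI := C.affine.isLocalization_stalk ⟨z, hz⟩
  exact IsLocalization.AtPrime.ringKrullDim_eq_height (C.pr z hz).asIdeal _

lemma ufd {z : X} (hz : z ∈ C.V) [IsDomain (X.presheaf.stalk z)]
    [UniqueFactorizationMonoid (X.presheaf.stalk z)] :
    UniqueFactorizationMonoid (Localization.AtPrime (C.pr z hz).asIdeal) := by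
  letI := TopCat.Presheaf.algebra_section_stalk X.presheaf (⟨z, hz⟩ : C.V)
  haveI := C.affine.isLocalization_stalk ⟨z, hz⟩
  exact MulEquiv.uniqueFactorizationMonoid
    (IsLocalization.algEquiv (C.pr z hz).asIdeal.primeCompl (X.presheaf.stalk z)
      (Localization.AtPrime (C.pr z hz).asIdeal)).toMulEquiv ‹_›

/-- The functions on the chart in the generic stalk. -/
abbrev toK : Γ(X, C.V) →+* X.presheaf.stalk C.η := (X.presheaf.germ C.V C.η C.η_mem).hom

instance algK : Algebra Γ(X, C.V) (X.presheaf.stalk C.η) := C.toK.toAlgebra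

instance fracK : IsFractionRing Γ(X, C.V) (X.presheaf.stalk C.η) := by
  have h := C.affine.isLocalization_stalk ⟨C.η, C.η_mem⟩
  rw [show C.affine.primeIdealOf ⟨C.η, C.η_mem⟩ = ⟨⊥, Ideal.isPrime_bot⟩ from C.pr_pt _] at h
  delta IsFractionRing
  convert! h using 1
  ext a
  exact mem_nonZeroDivisors_iff_ne_zero

/-- The fraction field. -/
@[reducible] def fieldK : Field (X.presheaf.stalk C.η) := IsFractionRing.toField Γ(X, C.V)

lemma isDomainK : IsDomain (X.presheaf.stalk C.η) := IsFractionRing.isDomain Γ(X, C.V)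

lemma un_iff {z : X} (hz : z ∈ C.V) (c : X.presheaf.stalk C.η) :
    letI := C.fieldK; Un (C.pr z hz).asIdeal c ↔ UnAt C.η z c := by
  letI := C.fieldK
  letI := TopCat.Presheaf.algebra_section_stalk X.presheaf (⟨z, hz⟩ : C.V)
  haveI := C.affine.isLocalization_stalk ⟨z, hz⟩
  have hg : ∀ a, (X.presheaf.stalkSpecializes (C.specializes hz)).hom
      (algebraMap Γ(X, C.V) (X.presheaf.stalk z) a) = algebraMap Γ(X, C.V) (X.presheaf.stalk C.η) a :=
    fun a => ConcreteCategory.congr_hom (TopCat.Presheaf.germ_stalkSpecializes X.presheaf hz (C.specializes hz)) a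
  constructor
  · rintro ⟨a, b, ha, hb, h⟩
    refine ⟨C.specializes hz, IsLocalization.mk' _ a (⟨b, hb⟩ : (C.pr z hz).asIdeal.primeCompl),
      (IsLocalization.AtPrime.isUnit_mk'_iff _ (C.pr z hz).asIdeal a _).mpr ha, ?_⟩
    have hb' : IsUnit (algebraMap Γ(X, C.V) (X.presheaf.stalk C.η) b) := by
      rw [← hg b]
      exact (IsLocalization.map_units (X.presheaf.stalk z) (⟨b, hb⟩ : (C.pr z hz).asIdeal.primeCompl)).map _
    refine hb'.mul_right_cancel ?_
    rw [h, ← hg a, ← hg b, ← map_mul]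
    exact congrArg _ (IsLocalization.mk'_spec _ a (⟨b, hb⟩ : (C.pr z hz).asIdeal.primeCompl))
  · rintro ⟨hs, w, hw, rfl⟩
    obtain ⟨a, s, rfl⟩ := IsLocalization.exists_mk'_eq (C.pr z hz).asIdeal.primeCompl w
    refine ⟨a, s, (IsLocalization.AtPrime.isUnit_mk'_iff _ (C.pr z hz).asIdeal a s).mp hw, s.2, ?_⟩
    rw [← hg s, ← hg a, ← map_mul, IsLocalization.mk'_spec]

lemma specializes_injective {z : X} (hz : z ∈ C.V) :
    Function.Injective (X.presheaf.stalkSpecializes (C.specializes hz)).hom := by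
  letI := TopCat.Presheaf.algebra_section_stalk X.presheaf (⟨z, hz⟩ : C.V)
  haveI := C.affine.isLocalization_stalk ⟨z, hz⟩
  rw [injective_iff_map_eq_zero]
  intro w hw
  obtain ⟨a, s, rfl⟩ := IsLocalization.exists_mk'_eq (C.pr z hz).asIdeal.primeCompl w
  have h2 := congrArg (· * (X.presheaf.stalkSpecializes (C.specializes hz)).hom
    (algebraMap Γ(X, C.V) _ s.1)) hw
  simp only [← map_mul, IsLocalization.mk'_spec, zero_mul] at h2
  have ha : a = 0 := IsFractionRing.injective Γ(X, C.V) (X.presheaf.stalk C.η)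
    (((ConcreteCategory.congr_hom
      (TopCat.Presheaf.germ_stalkSpecializes X.presheaf hz (C.specializes hz)) a).symm.trans h2).trans (map_zero _).symm)
  rw [ha, IsLocalization.mk'_zero]

/-- Functions on the chart are determined at the generic point. -/
lemma ext_of_germ {O : X.Opens} (hO : O ≤ C.V) (hη : C.η ∈ O) {a b : Γ(X, O)}
    (h : X.presheaf.germ O C.η hη a = X.presheaf.germ O C.η hη b) : a = b := by
  refine TopCat.Presheaf.section_ext X.sheaf O a b fun z hz => C.specializes_injective (hO hz) ?_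
  refine (ConcreteCategory.congr_hom (TopCat.Presheaf.germ_stalkSpecializes X.presheaf hz (C.specializes (hO hz))) a).trans ?_
  refine Eq.trans ?_ (ConcreteCategory.congr_hom (TopCat.Presheaf.germ_stalkSpecializes X.presheaf hz (C.specializes (hO hz))) b).symm
  exact h

lemma ext_of_empty {O : X.Opens} (hO : O ≤ C.V) (hη : C.η ∉ O) (a b : Γ(X, O)) : a = b :=
  TopCat.Presheaf.section_ext X.sheaf O a b fun _ hz => absurd (C.η_mem_of_nonempty (hO hz) hz) hη

/-- A unit at every point of an open is a unit section. -/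
lemma exists_unit {O : X.Opens} (hO : O ≤ C.V) (hη : C.η ∈ O) (c : X.presheaf.stalk C.η)
    (hc : ∀ z ∈ O, UnAt C.η z c) :
    ∃ a : Γ(X, O), IsUnit a ∧ X.presheaf.germ O C.η hη a = c := by
  have hloc : ∀ z : O, ∃ (T : X.Opens) (_ : T ≤ O) (_ : z.1 ∈ T) (hηT : C.η ∈ T) (a : Γ(X, T)),
      IsUnit a ∧ X.presheaf.germ T C.η hηT a = c := by
    rintro ⟨z, hz⟩
    obtain ⟨hs, w, hw, hwc⟩ := hc z hz
    obtain ⟨T, hzT, a, rfl⟩ := X.presheaf.exists_germ_eq w
    have hb : z ∈ X.basicOpen a := (X.mem_basicOpen a z hzT).mpr hw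
    refine ⟨X.basicOpen a ⊓ O, inf_le_right, ⟨hb, hz⟩, hs.mem_open (X.basicOpen a ⊓ O).2 ⟨hb, hz⟩,
      X.presheaf.map (homOfLE ((inf_le_left : X.basicOpen a ⊓ O ≤ _).trans (X.basicOpen_le a))).op a, ?_, ?_⟩
    · refine RingedSpace.isUnit_of_isUnit_germ X.toLocallyRingedSpace.toRingedSpace _ _ fun y hy => ?_
      have h1 := X.presheaf.germ_res_apply
        (homOfLE ((inf_le_left : X.basicOpen a ⊓ O ≤ _).trans (X.basicOpen_le a))) y hy a
      exact h1.symm ▸ (X.mem_basicOpen a y (X.basicOpen_le a hy.1)).mp hy.1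
    · rw [← hwc]
      refine (X.presheaf.germ_res_apply _ _ _ a).trans ?_
      exact (ConcreteCategory.congr_hom (TopCat.Presheaf.germ_stalkSpecializes X.presheaf hzT hs) a).symm
  choose T hTO hzT hηT a ha hac using hloc
  obtain ⟨A, hA, -⟩ := X.sheaf.existsUnique_gluing' T O (fun z => homOfLE (hTO z))
    (fun z hz => Opens.mem_iSup.mpr ⟨⟨z, hz⟩, hzT ⟨z, hz⟩⟩) a (fun z z' =>
      C.ext_of_germ ((inf_le_left.trans (hTO z)).trans hO) ⟨hηT z, hηT z'⟩ (by
        refine (X.presheaf.germ_res_apply _ _ _ _).trans ?_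
        refine Eq.trans ?_ (X.presheaf.germ_res_apply _ _ _ _).symm
        rw [hac, hac]))
  refine ⟨A, ?_, ?_⟩
  · refine RingedSpace.isUnit_of_isUnit_germ X.toLocallyRingedSpace.toRingedSpace O A fun z hz => ?_
    have h1 := X.presheaf.germ_res_apply (homOfLE (hTO ⟨z, hz⟩)) z (hzT ⟨z, hz⟩) A
    rw [← h1]
    exact ((hA ⟨z, hz⟩).symm ▸ ha ⟨z, hz⟩).map _
  · have z : O := ⟨C.η, hη⟩
    rw [← hac z, ← hA z]
    exact (X.presheaf.germ_res_apply _ _ _ _).symm

end Chart

end Groth.Agent.InvExt
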