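import Groth.Agent.Props.GenLocus
import Mathlib.RingTheory.Ideal.MinimalPrime.Noetherian
import Mathlib.RingTheory.Ideal.Height
import Mathlib.RingTheory.Localization.AtPrime.Basic
import Mathlib.AlgebraicGeometry.Morphisms.QuasiCompact

/-!
# Opens near a point whose local ring is noetherian of dimension at most one
-/

set_option autoImplicit false
set_option linter.style.haveILetI false

universe u

open CategoryTheory AlgebraicGeometry Opposite TopologicalSpace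

noncomputable section

namespace Groth.Agent.InvExt

section alg

variable {A : Type u} [CommRing A] (q : Ideal A) [q.IsPrime]

/-- Containment of constructible opens at the local ring spreads out. -/
theorem exists_agree (B C : Finset A)
    (h : ∀ p : Ideal A, p.IsPrime → p ≤ q → (∃ b ∈ B, b ∉ p) → ∃ c ∈ C, c ∉ p) :
    ∃ t : A, t ∉ q ∧ ∀ p : Ideal A, p.IsPrime → t ∉ p → (∃ b ∈ B, b ∉ p) → ∃ c ∈ C, c ∉ p := by
  classical
  let R := Localization.AtPrime q
  have hb : ∀ b : {b // b ∈ B}, ∃ (t : A) (N : ℕ), t ∉ q ∧ t * b.1 ^ N ∈ Ideal.span (C : Set A) := by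
    intro b
    have hrad : algebraMap A R b.1 ∈ ((Ideal.span (C : Set A)).map (algebraMap A R)).radical := by
      rw [Ideal.radical_eq_sInf, Submodule.mem_sInf]
      rintro P ⟨hP, hPp⟩
      by_contra hb
      haveI := hPp
      have hle : Ideal.comap (algebraMap A R) P ≤ q :=
        (Ideal.comap_mono (f := algebraMap A R) (IsLocalRing.le_maximalIdeal hPp.ne_top)).trans
          (IsLocalization.AtPrime.under_maximalIdeal R q).le
      obtain ⟨c, hc, hcp⟩ := h _ (Ideal.IsPrime.comap _) hle ⟨b.1, b.2, hb⟩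
      exact hcp (hP (Ideal.mem_map_of_mem _ (Ideal.subset_span hc)))
    obtain ⟨N, hN⟩ := hrad
    rw [← map_pow, IsLocalization.mem_map_algebraMap_iff q.primeCompl] at hN
    obtain ⟨⟨i, s⟩, his⟩ := hN
    rw [← map_mul] at his
    obtain ⟨u, hu⟩ := IsLocalization.exists_of_eq (M := q.primeCompl) his
    refine ⟨u.1 * s.1, N, fun hh => (‹q.IsPrime›.mem_or_mem hh).elim u.2 s.2, ?_⟩
    rw [mul_assoc, mul_comm s.1, hu]
    exact Ideal.mul_mem_left _ _ i.2
  choose t N ht htN using hb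
  refine ⟨∏ b ∈ B.attach, t b, show _ ∈ q.primeCompl from prod_mem fun b _ => ht b, fun p hp htp hex => ?_⟩
  obtain ⟨b, hb, hbp⟩ := hex
  by_contra hC
  have hle : Ideal.span (C : Set A) ≤ p := Ideal.span_le.mpr fun c hc => by_contra fun hcp => hC ⟨c, hc, hcp⟩
  rcases hp.mem_or_mem (hle (htN ⟨b, hb⟩)) with h1 | h1
  · exact htp (Ideal.mem_of_dvd p (Finset.dvd_prod_of_mem _ (Finset.mem_attach B ⟨b, hb⟩)) h1)
  · exact hbp (hp.mem_of_pow_mem _ h1)

/-- In dimension at most one there are finitely many primes strictly below, all minimal. -/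
theorem exists_below [IsNoetherianRing (Localization.AtPrime q)] (hq : q.height ≤ 1) :
    ∃ S : Finset (Ideal A), (∀ p ∈ S, p.IsPrime ∧ p ≤ q ∧ p ≠ q ∧ ∀ r : Ideal A, r.IsPrime → r ≤ p → r = p) ∧
      ∀ p : Ideal A, p.IsPrime → p ≤ q → p ≠ q → p ∈ S := by
  classical
  have hmin : ∀ p : Ideal A, p.IsPrime → p ≤ q → p ≠ q → ∀ r : Ideal A, r.IsPrime → r ≤ p → r = p := by
    intro p hp hpq hne r hr hrp
    by_contra h
    haveI : p.FiniteHeight :=
      ⟨Or.inr (ne_top_of_le_ne_top ENat.one_ne_top ((Ideal.height_mono hpq).trans hq))⟩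
    haveI : r.FiniteHeight :=
      ⟨Or.inr (ne_top_of_le_ne_top ENat.one_ne_top ((Ideal.height_mono (hrp.trans hpq)).trans hq))⟩
    have h1 := Ideal.height_strict_mono_of_isPrime (I := r) (lt_of_le_of_ne hrp h)
    have h2 := Ideal.height_strict_mono_of_isPrime (I := p) (lt_of_le_of_ne hpq hne)
    have h3 : p.height < 1 := lt_of_lt_of_le h2 hq
    rw [Order.lt_one_iff] at h3
    rw [h3] at h1
    exact not_lt_zero' h1
  let R := Localization.AtPrime q
  refine ⟨((Ideal.finite_minimalPrimes_of_isNoetherianRing R ⊥).toFinset.image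
    fun P => Ideal.comap (algebraMap A R) P).filter fun p => p.IsPrime ∧ p ≤ q ∧ p ≠ q, fun p hp => ?_, fun p hp hpq hne => ?_⟩
  · obtain ⟨h1, h2, h3⟩ := (Finset.mem_filter.mp hp).2
    exact ⟨h1, h2, h3, hmin p h1 h2 h3⟩
  · refine Finset.mem_filter.mpr ⟨Finset.mem_image.mpr ?_, hp, hpq, hne⟩
    have hd : Disjoint (q.primeCompl : Set A) p := Set.disjoint_left.mpr fun a ha hap => ha (hpq hap)
    haveI hP : (p.map (algebraMap A R)).IsPrime :=
      IsLocalization.isPrime_of_isPrime_disjoint q.primeCompl _ p hp hd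
    obtain ⟨P, hPm, hPle⟩ := Ideal.exists_minimalPrimes_le (bot_le : (⊥ : Ideal R) ≤ p.map (algebraMap A R))
    haveI := hPm.isPrime
    refine ⟨P, (Set.Finite.mem_toFinset _).mpr hPm, hmin p hp hpq hne _ (Ideal.IsPrime.comap _) ?_⟩
    exact (Ideal.comap_mono hPle).trans
      (IsLocalization.under_map_of_isPrime_disjoint q.primeCompl _ hp hd).le

end alg

open Groth.Agent.QCoh Groth.Agent.Props.GenLocus

variable {X : Scheme.{u}} {U V : X.Opens}

lemma exists_finset_basicOpen [QuasiCompact U.ι] (hV : IsAffineOpen V) :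
    ∃ B : Finset Γ(X, V), ∀ p : PrimeSpectrum Γ(X, V),
      hV.fromSpec p ∈ U ↔ ∃ b ∈ B, b ∉ p.asIdeal := by
  classical
  have hc : IsCompact ((U ⊓ V : X.Opens) : Set X) := by
    have h1 := (U.ι.isCompact_preimage hV.isCompact).image U.ι.continuous
    rw [Scheme.Hom.coe_preimage, Set.image_preimage_eq_inter_range, U.range_ι, Set.inter_comm] at h1
    exact h1
  have hloc : ∀ z : (U ⊓ V : X.Opens), ∃ b : Γ(X, V), X.basicOpen b ≤ U ⊓ V ∧ z.1 ∈ X.basicOpen b :=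
    fun z => hV.exists_basicOpen_le z z.2.2
  choose b hb hzb using hloc
  obtain ⟨F, hF⟩ := hc.elim_finite_subcover (fun z => (X.basicOpen (b z) : Set X))
    (fun z => (X.basicOpen (b z)).2) fun z hz => Set.mem_iUnion.mpr ⟨⟨z, hz⟩, hzb ⟨z, hz⟩⟩
  have hpV : ∀ p : PrimeSpectrum Γ(X, V), hV.fromSpec p ∈ V := fun p => hV.range_fromSpec.le ⟨p, rfl⟩
  have hbo : ∀ (p : PrimeSpectrum Γ(X, V)) (a : Γ(X, V)),
      hV.fromSpec p ∈ X.basicOpen a ↔ a ∉ p.asIdeal := fun p a => by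
    change p ∈ hV.fromSpec ⁻¹ᵁ X.basicOpen a ↔ _
    rw [hV.fromSpec_preimage_basicOpen]
    exact Iff.rfl
  refine ⟨F.image b, fun p => ⟨fun hp => ?_, ?_⟩⟩
  · obtain ⟨z, hzF, hz⟩ := Set.mem_iUnion₂.mp (hF ⟨hp, hpV p⟩)
    exact ⟨b z, Finset.mem_image_of_mem b hzF, (hbo p _).mp hz⟩
  · rintro ⟨_, hm, hb'⟩
    obtain ⟨z, -, rfl⟩ := Finset.mem_image.mp hm
    exact (hb z ((hbo p _).mpr hb')).1

variable (U)

/-- Near an isolated point of the complement with local ring noetherian of dimension at most one,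
the open is a basic open and an invertible module on it is trivial. -/
theorem exists_chart [QuasiCompact U.ι] (x : X) (hx : x ∉ U)
    (hiso : ∃ O : X.Opens, x ∈ O ∧ ∀ z ∈ O, z ∉ U → z = x)
    (hnoe : IsNoetherianRing (X.presheaf.stalk x)) (hdim : ringKrullDim (X.presheaf.stalk x) ≤ 1)
    (M : X.Modules) (hM : ∀ z ∈ U, ∃ (O : X.Opens) (g : Γ(M, O)), z ∈ O ∧ O ≤ U ∧ IsGen M O g) :
    ∃ (W : X.Opens), x ∈ W ∧ (∀ z ∈ W, z ∉ U → z = x) ∧
      (∃ f : Γ(X, W), X.basicOpen f = U ⊓ W) ∧ ∃ g : Γ(M, U ⊓ W), IsGen M (U ⊓ W) g := by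
  classical
  obtain ⟨O₀, hxO₀, hO₀⟩ := hiso
  obtain ⟨V, hV, hxV, hVO⟩ := exists_isAffineOpen_mem_and_subset (U := O₀) (x := x) hxO₀
  let A := Γ(X, V)
  letI := TopCat.Presheaf.algebra_section_stalk X.presheaf (⟨x, hxV⟩ : V)
  let qq := hV.primeIdealOf ⟨x, hxV⟩
  let q := qq.asIdeal
  haveI hloc : IsLocalization.AtPrime (X.presheaf.stalk x) q := hV.isLocalization_stalk ⟨x, hxV⟩
  haveI : IsNoetherianRing (Localization.AtPrime q) :=
    isNoetherianRing_of_ringEquiv (X.presheaf.stalk x)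
      (IsLocalization.algEquiv q.primeCompl (X.presheaf.stalk x) (Localization.AtPrime q)).toRingEquiv
  have hq : q.height ≤ 1 := by
    rw [IsLocalization.AtPrime.ringKrullDim_eq_height q (X.presheaf.stalk x)] at hdim
    exact_mod_cast hdim
  let pt : PrimeSpectrum A → X := fun p => hV.fromSpec p
  have hptV : ∀ p, pt p ∈ V := fun p => hV.range_fromSpec.le ⟨p, rfl⟩
  have hptq : pt qq = x := hV.fromSpec_primeIdealOf ⟨x, hxV⟩
  have hbo : ∀ (p : PrimeSpectrum A) (a : A), pt p ∈ X.basicOpen a ↔ a ∉ p.asIdeal := fun p a => by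
    change p ∈ hV.fromSpec ⁻¹ᵁ X.basicOpen a ↔ _
    rw [hV.fromSpec_preimage_basicOpen]
    exact Iff.rfl
  have hptU : ∀ p : PrimeSpectrum A, p.asIdeal ≠ q → pt p ∈ U := by
    intro p hp
    by_contra hpU
    have h1 := (hO₀ _ (hVO (hptV p)) hpU).trans hptq.symm
    exact hp (congrArg PrimeSpectrum.asIdeal (hV.fromSpec.isOpenEmbedding.injective h1))
  obtain ⟨B, hB⟩ := exists_finset_basicOpen (U := U) hV
  obtain ⟨S, hS, hS'⟩ := exists_below q hq
  -- a function cutting out the point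
  obtain ⟨f, hfq, hf⟩ : ∃ f ∈ q, ∀ p ∈ S, f ∉ p := by
    by_contra hcon
    have hsub : (q : Set A) ⊆ ⋃ p ∈ (S : Set (Ideal A)), (p : Set A) := fun r hr => by
      by_contra hr'
      simp only [Set.mem_iUnion, not_exists] at hr'
      exact hcon ⟨r, hr, fun p hp h => hr' p hp h⟩
    obtain ⟨p, hp, hle⟩ := (Ideal.subset_union_prime (R := A) (s := S) (f := fun p => p) ⊥ ⊥
      (fun p hp _ _ => (hS p hp).1)).mp hsub
    exact (hS p hp).2.2.1 (le_antisymm (hS p hp).2.1 hle)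
  have hBq : ∀ b ∈ B, b ∈ q := fun b hb => by
    by_contra h
    exact hx (hptq ▸ (hB qq).mpr ⟨b, hb, h⟩)
  obtain ⟨t₁, ht₁, ht₁'⟩ := exists_agree q {f} B fun p hp hpq hex => by
    obtain ⟨c, hc, hcp⟩ := hex
    rw [Finset.mem_singleton] at hc
    subst hc
    exact (hB ⟨p, hp⟩).mp (hptU ⟨p, hp⟩ fun h : p = q => hcp (h ▸ hfq))
  obtain ⟨t₂, ht₂, ht₂'⟩ := exists_agree q B {f} fun p hp hpq ⟨b, hb, hbp⟩ =>
    ⟨f, Finset.mem_singleton_self f, hf p (hS' p hp hpq fun h => hbp (h ▸ hBq b hb))⟩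
  -- generators on disjoint neighbourhoods of the generalisations
  have hgen : ∀ p : {p // p ∈ S}, ∃ (a : A) (O : X.Opens) (g : Γ(M, O)), a ∉ p.1 ∧
      X.basicOpen a ≤ O ∧ O ≤ U ∧ IsGen M O g ∧ ∀ p' ∈ S, p' ≠ p.1 → a ∈ p' := by
    rintro ⟨p, hp⟩
    haveI := (hS p hp).1
    obtain ⟨O, g, hzO, hOU, hg⟩ := hM _ (hptU ⟨p, inferInstance⟩ (hS p hp).2.2.1)
    obtain ⟨a, haO, hap⟩ := hV.exists_basicOpen_le (V := O)
      ⟨pt ⟨p, inferInstance⟩, hzO⟩ (hptV ⟨p, inferInstance⟩)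
    have hr : ∀ p' : {p' // p' ∈ S.erase p}, ∃ r, r ∈ p'.1 ∧ r ∉ p := fun p' => by
      refine SetLike.not_le_iff_exists.mp fun hle => ?_
      obtain ⟨hne, hp'⟩ := Finset.mem_erase.mp p'.2
      exact hne ((hS p hp).2.2.2 _ (hS _ hp').1 hle)
    choose r hr hr' using hr
    refine ⟨a * ∏ p' ∈ (S.erase p).attach, r p', O, g,
      fun hh => (‹p.IsPrime›.mem_or_mem hh).elim ((hbo ⟨p, inferInstance⟩ a).mp hap)
        (show _ ∈ p.primeCompl from prod_mem fun p' _ => hr' p'), ?_, hOU, hg, fun p' hp' hne => ?_⟩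
    · rw [X.basicOpen_mul]
      exact inf_le_left.trans haO
    · have hm : p' ∈ S.erase p := Finset.mem_erase.mpr ⟨hne, hp'⟩
      exact Ideal.mul_mem_left _ _
        (Ideal.mem_of_dvd p' (Finset.dvd_prod_of_mem _ (Finset.mem_attach _ ⟨p', hm⟩)) (hr ⟨p', hm⟩))
  choose a O g hap haO hOU hg haS using hgen
  have haq : ∀ i, a i ∈ q := fun i => by
    by_contra h
    exact hx (hptq ▸ hOU i (haO i ((hbo qq _).mpr h)))
  obtain ⟨t₃, ht₃, ht₃'⟩ := exists_agree q B (S.attach.image a) fun p hp hpq ⟨b, hb, hbp⟩ => by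
    have hpS : p ∈ S := hS' p hp hpq fun h => hbp (h ▸ hBq b hb)
    exact ⟨_, Finset.mem_image_of_mem a (Finset.mem_attach S ⟨p, hpS⟩), hap ⟨p, hpS⟩⟩
  obtain ⟨t₄, ht₄, ht₄'⟩ := exists_agree q ((S.attach ×ˢ S.attach).filter (fun e => e.1 ≠ e.2)
      |>.image fun e => a e.1 * a e.2) ∅ fun p hp hpq ⟨c, hc, hcp⟩ => by
    exfalso
    obtain ⟨⟨i, j⟩, hij, rfl⟩ := Finset.mem_image.mp hc
    have hne : i ≠ j := (Finset.mem_filter.mp hij).2
    by_cases hpe : p = q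
    · exact hcp (Ideal.mul_mem_right _ _ (hpe ▸ haq i))
    · have hpS := hS' p hp hpq hpe
      by_cases hi : p = i.1
      · exact hcp (Ideal.mul_mem_left _ _ (haS j p hpS fun h => hne (Subtype.ext (hi.symm.trans h))))
      · exact hcp (Ideal.mul_mem_right _ _ (haS i p hpS hi))
  let T := t₁ * t₂ * t₃ * t₄
  have hT : T ∉ q := show _ ∈ q.primeCompl from mul_mem (mul_mem (mul_mem ht₁ ht₂) ht₃) ht₄
  have hsurj : ∀ z ∈ X.basicOpen T, ∃ p, pt p = z ∧ t₁ ∉ p.asIdeal ∧ t₂ ∉ p.asIdeal ∧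
      t₃ ∉ p.asIdeal ∧ t₄ ∉ p.asIdeal := by
    intro z hz
    refine ⟨_, hV.fromSpec_primeIdealOf ⟨z, X.basicOpen_le T hz⟩, ?_⟩
    have h1 := (hbo _ T).mp (by rwa [show pt (hV.primeIdealOf ⟨z, X.basicOpen_le T hz⟩) = z
      from hV.fromSpec_primeIdealOf ⟨z, X.basicOpen_le T hz⟩])
    exact ⟨fun h => h1 (Ideal.mul_mem_right _ _ (Ideal.mul_mem_right _ _ (Ideal.mul_mem_right _ _ h))),
      fun h => h1 (Ideal.mul_mem_right _ _ (Ideal.mul_mem_right _ _ (Ideal.mul_mem_left _ _ h))),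
      fun h => h1 (Ideal.mul_mem_right _ _ (Ideal.mul_mem_left _ _ h)),
      fun h => h1 (Ideal.mul_mem_left _ _ h)⟩
  refine ⟨X.basicOpen T, ?_, fun z hz hzU => hO₀ z (hVO (X.basicOpen_le T hz)) hzU, ?_, ?_⟩
  · exact hptq ▸ (hbo qq T).mpr hT
  · refine ⟨rres (X.basicOpen_le T) f, ?_⟩
    rw [rres, X.basicOpen_res]
    ext z
    constructor
    · rintro ⟨hzT, hzf⟩
      obtain ⟨p, rfl, h1, -, -, -⟩ := hsurj z hzT
      exact ⟨(hB p).mpr (ht₁' _ p.2 h1 ⟨f, Finset.mem_singleton_self f, (hbo p f).mp hzf⟩), hzT⟩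
    · rintro ⟨hzU, hzT⟩
      obtain ⟨p, rfl, -, h2, -, -⟩ := hsurj z hzT
      obtain ⟨c, hc, hcp⟩ := ht₂' _ p.2 h2 ((hB p).mp hzU)
      rw [Finset.mem_singleton] at hc
      exact ⟨hzT, (hbo p f).mpr (hc ▸ hcp)⟩
  · obtain ⟨G, hG⟩ := exists_glue M (U := fun i => X.basicOpen T ⊓ X.basicOpen (a i))
      (V := U ⊓ X.basicOpen T) (fun i => le_inf (inf_le_right.trans ((haO i).trans (hOU i))) inf_le_left)
      (fun z hz => by
        obtain ⟨p, rfl, -, -, h3, -⟩ := hsurj z hz.2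
        obtain ⟨c, hc, hcp⟩ := ht₃' _ p.2 h3 ((hB p).mp hz.1)
        obtain ⟨i, -, rfl⟩ := Finset.mem_image.mp hc
        exact Opens.mem_iSup.mpr ⟨i, hz.2, (hbo p _).mpr hcp⟩)
      (fun i => res M (inf_le_right.trans (haO i) : X.basicOpen T ⊓ X.basicOpen (a i) ≤ O i) (g i))
      (fun i j => by
        by_cases hij : i = j
        · subst hij; rfl
        · refine eq_of_locally_eq M (U := fun e : PEmpty.{u + 1} => e.elim) (fun e => e.elim) ?_ _ _
            fun e => e.elim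
          rintro z ⟨⟨hzT, hzi⟩, -, hzj⟩
          obtain ⟨p, rfl, -, -, -, h4⟩ := hsurj z hzT
          obtain ⟨c, hc, -⟩ := ht₄' _ p.2 h4 ⟨a i * a j,
            Finset.mem_image.mpr ⟨(i, j), Finset.mem_filter.mpr
              ⟨Finset.mem_product.mpr ⟨Finset.mem_attach _ _, Finset.mem_attach _ _⟩, hij⟩, rfl⟩,
            fun h => (p.2.mem_or_mem h).elim ((hbo p _).mp hzi) ((hbo p _).mp hzj)⟩
          exact absurd hc (Finset.notMem_empty c))
    refine ⟨G, IsGen.of_local fun z hz => ?_⟩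
    obtain ⟨p, rfl, -, -, h3, -⟩ := hsurj z hz.2
    obtain ⟨c, hc, hcp⟩ := ht₃' _ p.2 h3 ((hB p).mp hz.1)
    obtain ⟨i, -, rfl⟩ := Finset.mem_image.mp hc
    refine ⟨_, le_inf (inf_le_right.trans ((haO i).trans (hOU i))) inf_le_left, ⟨hz.2, (hbo p _).mpr hcp⟩, ?_⟩
    rw [hG]
    exact (hg i).restrict _

end Groth.Agent.InvExt
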