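import Groth.Agent.InvExt.Chart
import Groth.Agent.Props.GenLocus

/-!
# Generators of an invertible module at a generic point

The ratio of a generator to a fixed one, computed in the stalk at the generic point.
-/

set_option autoImplicit false
set_option linter.style.haveILetI false

universe u

open CategoryTheory AlgebraicGeometry Opposite TopologicalSpace

noncomputable section

namespace Groth.Agent.InvExt

open Groth.Agent.QCoh Groth.Agent.Props.GenLocus

variable {X : Scheme.{u}} {M : X.Modules}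

lemma germ_rres {T T' : X.Opens} (h : T' ≤ T) (η : X) (hη : η ∈ T') (a : Γ(X, T)) :
    X.presheaf.germ T' η hη (rres h a) = X.presheaf.germ T η (h hη) a :=
  X.presheaf.germ_res_apply _ _ _ a

section
variable {η : X} {W O O' : X.Opens} {h : Γ(M, W)} (hh : IsGen M W h) {g : Γ(M, O)} {g' : Γ(M, O')}
  (hW : η ∈ W) (hO : η ∈ O) (hO' : η ∈ O')

/-- The ratio `g / h` at `η`. -/
def ratio (g : Γ(M, O)) : X.presheaf.stalk η :=
  X.presheaf.germ (O ⊓ W) η ⟨hO, hW⟩
    (hh.exists_eq (inf_le_right : O ⊓ W ≤ W) (res M (inf_le_left : O ⊓ W ≤ O) g)).exists.choose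

lemma ratio_spec (g : Γ(M, O)) :
    ∃ a : Γ(X, O ⊓ W), res M (inf_le_left : O ⊓ W ≤ O) g = a • res M (inf_le_right : O ⊓ W ≤ W) h ∧
      X.presheaf.germ (O ⊓ W) η ⟨hO, hW⟩ a = ratio hh hW hO g :=
  ⟨_, (hh.exists_eq (inf_le_right : O ⊓ W ≤ W) (res M (inf_le_left : O ⊓ W ≤ O) g)).exists.choose_spec, rfl⟩

lemma ratio_eq {T : X.Opens} (hT : η ∈ T) (h1 : T ≤ O) (h2 : T ≤ W) {a : Γ(X, T)}
    (ha : res M h1 g = a • res M h2 h) : ratio hh hW hO g = X.presheaf.germ T η hT a := by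
  obtain ⟨b, hb, hb'⟩ := ratio_spec hh hW hO g
  have h3 := congrArg (res M (le_inf h1 h2)) hb
  rw [res_res, res_smul, res_res, ha] at h3
  rw [hh.injective h2 h3, germ_rres, hb']

lemma ratio_res {T : X.Opens} (hT : η ∈ T) (h1 : T ≤ O) :
    ratio hh hW hT (res M h1 g) = ratio hh hW hO g := by
  obtain ⟨a, ha, ha'⟩ := ratio_spec hh hW hT (res M h1 g)
  rw [← ha']
  refine (ratio_eq hh hW hO (T := T ⊓ W) ⟨hT, hW⟩ (inf_le_left.trans h1) inf_le_right ?_).symm
  rw [← ha, res_res]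

/-- The ratio of a multiple. -/
lemma ratio_trans {T : X.Opens} (hT : η ∈ T) (h1 : T ≤ O) (h2 : T ≤ O') {a : Γ(X, T)}
    (ha : res M h2 g' = a • res M h1 g) :
    ratio hh hW hO' g' = X.presheaf.germ T η hT a * ratio hh hW hO g := by
  obtain ⟨b, hb, hb'⟩ := ratio_spec hh hW hO g
  have hle : T ⊓ W ≤ O ⊓ W := inf_le_inf_right W h1
  rw [ratio_eq hh hW hO' (T := T ⊓ W) ⟨hT, hW⟩ (inf_le_left.trans h2) inf_le_right
    (a := rres (inf_le_left : T ⊓ W ≤ T) a * rres hle b) ?_]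
  · rw [map_mul, germ_rres, germ_rres, hb']
  · have h3 := congrArg (res M (inf_le_left : T ⊓ W ≤ T)) ha
    have h4 := congrArg (res M hle) hb
    rw [res_res, res_smul, res_res] at h3 h4
    rw [h3, h4, smul_smul]

lemma ratio_smul (a : Γ(X, O)) :
    ratio hh hW hO (a • g) = X.presheaf.germ O η hO a * ratio hh hW hO g :=
  ratio_trans hh hW hO hO hO le_rfl le_rfl (a := a) (by rw [res_self, res_self])

lemma ratio_ne_zero [Nontrivial (X.presheaf.stalk η)] (hg : IsGen M O g) : ratio hh hW hO g ≠ 0 := by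
  intro h0
  obtain ⟨b, hb, -⟩ := hg.exists_eq (inf_le_left : O ⊓ W ≤ O) (res M (inf_le_right : O ⊓ W ≤ W) h)
  have h1 := ratio_trans hh hW hO (g' := h) hW (T := O ⊓ W) ⟨hO, hW⟩ inf_le_left inf_le_right hb
  rw [h0, mul_zero, ratio_eq hh hW hW (T := W) hW le_rfl le_rfl (a := 1) (by rw [one_smul]), map_one] at h1
  exact one_ne_zero h1

end

/-- `v` is the ratio of a generator near `z`. -/
def GoodAt (C : Chart X) {W : X.Opens} {h : Γ(M, W)} (hh : IsGen M W h) (hW : C.η ∈ W) (U : X.Opens)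
    (v : X.presheaf.stalk C.η) (z : X) : Prop :=
  ∃ (O : X.Opens) (g : Γ(M, O)) (hO : C.η ∈ O), z ∈ O ∧ O ≤ U ⊓ C.V ∧ IsGen M O g ∧
    ratio hh hW hO g = v

variable (C : Chart X) {W : X.Opens} {h : Γ(M, W)} (hh : IsGen M W h) (hW : C.η ∈ W)

/-- Generators with the same ratio agree. -/
lemma eq_of_ratio {O O' : X.Opens} {g : Γ(M, O)} {g' : Γ(M, O')} (hg : IsGen M O g) (hOV : O ≤ C.V)
    (hO : C.η ∈ O) (hO' : C.η ∈ O') (he : ratio hh hW hO g = ratio hh hW hO' g') :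
    res M (inf_le_right : O ⊓ O' ≤ O') g' = res M (inf_le_left : O ⊓ O' ≤ O) g := by
  obtain ⟨a, ha, -⟩ := hg.exists_eq (inf_le_left : O ⊓ O' ≤ O) (res M (inf_le_right : O ⊓ O' ≤ O') g')
  have h1 := ratio_trans hh hW hO hO' (T := O ⊓ O') ⟨hO, hO'⟩ inf_le_left inf_le_right ha
  haveI := C.isDomainK
  have h2 : X.presheaf.germ (O ⊓ O') C.η ⟨hO, hO'⟩ a = 1 := by
    refine mul_right_cancel₀ (ratio_ne_zero hh hW hO hg) ?_
    rw [← h1, one_mul, he]
  rw [ha, C.ext_of_germ (inf_le_left.trans hOV) ⟨hO, hO'⟩ (h2.trans (map_one _).symm), one_smul]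

/-- Good everywhere on an open gives a generator there. -/
lemma exists_gen_of_good (U : X.Opens) (v : X.presheaf.stalk C.η) (O : X.Opens) (hO : C.η ∈ O)
    (hgood : ∀ z ∈ O, GoodAt C hh hW U v z) :
    ∃ g : Γ(M, O), IsGen M O g ∧ ratio hh hW hO g = v := by
  choose T g hT hzT hTV hg hr using fun z : O => hgood z.1 z.2
  let T' : O → X.Opens := fun z => T z ⊓ O
  obtain ⟨G, hG⟩ := exists_glue M (U := T') (V := O) (fun z => inf_le_right)
    (fun z hz => Opens.mem_iSup.mpr ⟨⟨z, hz⟩, hzT ⟨z, hz⟩, hz⟩)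
    (fun z => res M (inf_le_left : T' z ≤ T z) (g z)) (fun z z' => by
      have h1 := eq_of_ratio C hh hW (hg z) ((hTV z).trans inf_le_right) (hT z) (hT z')
        ((hr z).trans (hr z').symm)
      have hle : T' z ⊓ T' z' ≤ T z ⊓ T z' := inf_le_inf inf_le_left inf_le_left
      have h2 := congrArg (res M hle) h1
      rw [res_res, res_res] at h2
      rw [res_res, res_res]
      exact h2.symm)
  refine ⟨G, IsGen.of_local fun z hz => ⟨T' ⟨z, hz⟩, inf_le_right, ⟨hzT _, hz⟩, ?_⟩, ?_⟩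
  · rw [hG]; exact (hg _).restrict _
  · have z : O := ⟨C.η, hO⟩
    have h1 := ratio_res hh hW hO (g := G) (T := T' z) ⟨hT z, hO⟩ inf_le_right
    rw [hG, ratio_res hh hW (hT z) (g := g z)] at h1
    rw [← h1, hr]

/-- Changing a ratio by a unit keeps it good. -/
lemma good_of_gen {U O : X.Opens} {g : Γ(M, O)} (hg : IsGen M O g) (hOU : O ≤ U) (hO : C.η ∈ O)
    {z : X} (hz : z ∈ O) (hzV : z ∈ C.V) {c : X.presheaf.stalk C.η} (hc : UnAt C.η z c) :
    GoodAt C hh hW U (c * ratio hh hW hO g) z := by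
  obtain ⟨hs, w, hw, rfl⟩ := hc
  obtain ⟨T, hzT, a, rfl⟩ := X.presheaf.exists_germ_eq w
  let S : X.Opens := X.basicOpen a ⊓ O ⊓ C.V
  have hb : z ∈ X.basicOpen a := (X.mem_basicOpen a z hzT).mpr hw
  have hzS : z ∈ S := ⟨⟨hb, hz⟩, hzV⟩
  have hS : C.η ∈ S := hs.mem_open S.2 hzS
  have hST : S ≤ T := inf_le_left.trans (inf_le_left.trans (X.basicOpen_le a))
  have hSO : S ≤ O := inf_le_left.trans inf_le_right
  refine ⟨S, rres hST a • res M hSO g, hS, hzS, le_inf (hSO.trans hOU) inf_le_right,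
    (hg.restrict hSO).smul_unit ?_, ?_⟩
  · refine RingedSpace.isUnit_of_isUnit_germ X.toLocallyRingedSpace.toRingedSpace _ _ fun y hy => ?_
    exact (germ_rres hST y hy a).symm ▸ (X.mem_basicOpen a y (X.basicOpen_le a hy.1.1)).mp hy.1.1
  · rw [ratio_smul hh hW hS, ratio_res hh hW hO hS hSO, germ_rres]
    exact congrArg (· * _)
      (ConcreteCategory.congr_hom (TopCat.Presheaf.germ_stalkSpecializes X.presheaf hzT hs) a).symm

/-- The ratio of two generators near `z` is a unit at `z`. -/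
lemma unAt_of_gen {O O' : X.Opens} {g : Γ(M, O)} {g' : Γ(M, O')} (hg : IsGen M O g) (hg' : IsGen M O' g')
    (hO : C.η ∈ O) (hO' : C.η ∈ O') {z : X} (hz : z ∈ O) (hz' : z ∈ O') (hzV : z ∈ C.V) :
    ∃ c, UnAt C.η z c ∧ ratio hh hW hO' g' = c * ratio hh hW hO g := by
  obtain ⟨a, ha, -⟩ := hg.exists_eq (inf_le_left : O ⊓ O' ≤ O) (res M (inf_le_right : O ⊓ O' ≤ O') g')
  obtain ⟨b, hb, -⟩ := hg'.exists_eq (inf_le_right : O ⊓ O' ≤ O') (res M (inf_le_left : O ⊓ O' ≤ O) g)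
  have hu : a * b = 1 := by
    refine hg'.injective inf_le_right ?_
    rw [mul_smul, one_smul, ← hb, ← ha]
  refine ⟨_, ⟨C.specializes hzV, X.presheaf.germ (O ⊓ O') z ⟨hz, hz'⟩ a,
    (IsUnit.of_mul_eq_one b hu).map _, rfl⟩, ?_⟩
  rw [ratio_trans hh hW hO hO' (T := O ⊓ O') ⟨hO, hO'⟩ inf_le_left inf_le_right ha]
  exact congrArg (· * _)
    (ConcreteCategory.congr_hom (TopCat.Presheaf.germ_stalkSpecializes X.presheaf (U := O ⊓ O') ⟨hz, hz'⟩ (C.specializes hzV)) a).symm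

end Groth.Agent.InvExt
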